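import Groth.Agent.GlueIso.Torsion
import Mathlib

/-!
# Closed subschemes containing an open and a flat modification along its complement
-/

set_option autoImplicit false
universe u

open CategoryTheory CategoryTheory.Limits AlgebraicGeometry TensorProduct

set_option backward.isDefEq.respectTransparency false

namespace Groth.Agent.GlueIso

/-- functions on an affine flat scheme vanishing off a closed subscheme and on a flat modification along it -/
theorem eq_zero_of_modification {A C C' : Type u} [CommRing A] [CommRing C] [CommRing C'] [Algebra A C]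
    [Algebra C C'] [Algebra A C'] [IsScalarTower A C C'] [Module.Flat A C] [Module.Flat A C']
    {Z : Scheme.{u}} (zs : Z ⟶ Spec (CommRingCat.of A)) [IsClosedImmersion zs] [LocallyOfFinitePresentation zs]
    (hmod : ∀ (T : Scheme.{u}) (x : T ⟶ Spec (CommRingCat.of C)) (z : T ⟶ Z),
      z ≫ zs = x ≫ Spec.map (CommRingCat.ofHom (algebraMap A C)) →
        Flat (pullback.fst x (Spec.map (CommRingCat.ofHom (algebraMap C C')))) ∧
          Surjective (pullback.fst x (Spec.map (CommRingCat.ofHom (algebraMap C C')))))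
    (c : C) (h : algebraMap C C' c = 0)
    (hopen : ∀ a : A, (Set.range zs) ∩ (PrimeSpectrum.basicOpen a : Set (PrimeSpectrum A)) = ∅ →
      ∃ n : ℕ, a ^ n • c = 0) : c = 0 := by
  classical
  haveI : IsAffine Z := isAffine_of_isAffineHom zs
  -- the ideal
  obtain ⟨φ, hφ⟩ : ∃ φ : CommRingCat.of A ⟶ Γ(Z, ⊤), Z.isoSpec.inv ≫ zs = Spec.map φ := Spec.map_surjective _ |>.imp
    fun _ => Eq.symm
  have hcl : IsClosedImmersion (Spec.map φ) := hφ ▸ inferInstance
  have hlfp : LocallyOfFinitePresentation (Spec.map φ) := hφ ▸ inferInstance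
  have hsurj : Function.Surjective φ.hom :=
    ((HasAffineProperty.iff_of_isAffine (P := @IsClosedImmersion)).1 hcl).2 |> fun h => by
      have hnat := (Scheme.ΓSpecIso_naturality φ)
      intro z
      obtain ⟨y, hy⟩ := h ((Scheme.ΓSpecIso _).inv z)
      refine ⟨(Scheme.ΓSpecIso _).hom y, ?_⟩
      have := congrArg (fun q => q.hom y) hnat
      simp only [CommRingCat.hom_comp, RingHom.comp_apply] at this
      rw [← this, hy, ← CommRingCat.comp_apply, Iso.inv_hom_id]
      rfl
  have hfp : φ.hom.FinitePresentation := (HasRingHomProperty.Spec_iff (P := @LocallyOfFinitePresentation)).1 hlfp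
  let I : Ideal A := RingHom.ker φ.hom
  have hI : I.FG := by
    letI : Algebra A Γ(Z, ⊤) := φ.hom.toAlgebra
    haveI : Algebra.FinitePresentation A A := inferInstance
    haveI : Algebra.FinitePresentation A Γ(Z, ⊤) := hfp
    exact Algebra.FinitePresentation.ker_fG_of_surjective (Algebra.ofId A Γ(Z, ⊤)) hsurj
  have hrange : ∀ p : PrimeSpectrum A, p ∈ Set.range zs ↔ I ≤ p.asIdeal := by
    intro p
    have e1 : Set.range zs = Set.range (PrimeSpectrum.comap φ.hom) := by
      show _ = Set.range (Spec.map φ)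
      rw [← hφ]
      show _ = Set.range (zs ∘ Z.isoSpec.inv)
      rw [Set.range_comp, Z.isoSpec.inv.surjective.range_eq, Set.image_univ]
    rw [e1, range_comap_of_surjective _ _ hsurj]
    rfl
  -- modulo the ideal
  let J := I.map (algebraMap A C)
  have hff : Module.FaithfullyFlat (C ⧸ J) ((C ⧸ J) ⊗[C] C') := by
    obtain ⟨ψ, hψ⟩ : ∃ ψ : Γ(Z, ⊤) →+* C ⧸ J,
        ψ.comp φ.hom = (Ideal.Quotient.mk J).comp (algebraMap A C) := by
      refine ⟨φ.hom.liftOfRightInverse _ (Function.rightInverse_surjInv hsurj)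
        ⟨(Ideal.Quotient.mk J).comp (algebraMap A C), fun a ha => ?_⟩, RingHom.liftOfRightInverse_comp _ _ _ _⟩
      exact Ideal.Quotient.eq_zero_iff_mem.2 (Ideal.mem_map_of_mem _ ha)
    obtain ⟨h1, h2⟩ := hmod (Spec (CommRingCat.of (C ⧸ J))) (Spec.map (CommRingCat.ofHom (algebraMap C (C ⧸ J))))
      (Spec.map (CommRingCat.ofHom ψ) ≫ Z.isoSpec.inv) (by
        rw [Category.assoc, hφ, ← Spec.map_comp, ← Spec.map_comp]
        exact congrArg Spec.map (CommRingCat.hom_ext hψ))
    have h3 : Flat (Spec.map (CommRingCat.ofHom (algebraMap (C ⧸ J) ((C ⧸ J) ⊗[C] C')))) ∧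
        Surjective (Spec.map (CommRingCat.ofHom (algebraMap (C ⧸ J) ((C ⧸ J) ⊗[C] C')))) := by
      rw [← pullbackSpecIso_inv_fst']
      exact ⟨inferInstance, inferInstance⟩
    exact RingHom.faithfullyFlat_algebraMap_iff.1 ((flat_and_surjective_SpecMap_iff _).1 h3)
  -- a power of the ideal kills the function
  let R : Ideal A := (LinearMap.toSpanSingleton A C c).ker
  obtain ⟨n, hn⟩ : ∃ n, I ^ n ≤ R := by
    refine Ideal.exists_pow_le_of_le_radical_of_fg ?_ hI
    intro a ha
    obtain ⟨n, hn⟩ := hopen a (Set.eq_empty_iff_forall_notMem.2 fun p hp => hp.2 ((hrange p).1 hp.1 ha))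
    exact ⟨n, hn⟩
  exact eq_zero_of_torsion I hI hff c n (fun a ha => hn ha) h

/-- closed subschemes containing an open and a flat modification along its complement are everything -/
theorem isIso_of_modification {D P P'' Z E : Scheme.{u}} [IsAffine D] [IsAffine P] [IsAffine P''] (g : P ⟶ D)
    [Flat g] (κ : P'' ⟶ P) [Flat (κ ≫ g)] (zs : Z ⟶ D) [IsClosedImmersion zs] [LocallyOfFinitePresentation zs]
    (hmod : ∀ (T : Scheme.{u}) (x : T ⟶ P) (z : T ⟶ Z), z ≫ zs = x ≫ g →
      Flat (pullback.fst x κ) ∧ Surjective (pullback.fst x κ))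
    (e : E ⟶ P) [IsClosedImmersion e] (l : P'' ⟶ E) (hl : l ≫ e = κ)
    (hopen : ∀ (T : Scheme.{u}) (x : T ⟶ P), Disjoint (Set.range (x ≫ g)) (Set.range zs) → ∃ y : T ⟶ E, y ≫ e = x) :
    IsIso e := by
  refine IsClosedImmersion.isIso_of_injective_of_isAffine ((injective_iff_map_eq_zero e.appTop.hom).2 fun t ht => ?_)
  algebraize [g.appTop.hom, κ.appTop.hom, κ.appTop.hom.comp g.appTop.hom]
  haveI : Module.Flat Γ(D, ⊤) Γ(P, ⊤) := g.flat_appTop
  haveI : Module.Flat Γ(D, ⊤) Γ(P'', ⊤) := by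
    have h := (κ ≫ g).flat_appTop
    rw [Scheme.Hom.comp_appTop] at h
    exact h
  refine eq_zero_of_modification (A := Γ(D, ⊤)) (C := Γ(P, ⊤)) (C' := Γ(P'', ⊤)) (zs ≫ D.isoSpec.hom) ?_ t ?_ ?_
  · intro T x z hz
    have hg : Spec.map g.appTop ≫ D.isoSpec.inv = P.isoSpec.inv ≫ g := Scheme.isoSpec_inv_naturality g
    have hκ : Spec.map κ.appTop ≫ P.isoSpec.inv = P''.isoSpec.inv ≫ κ := Scheme.isoSpec_inv_naturality κ
    obtain ⟨h1, h2⟩ := hmod T (x ≫ P.isoSpec.inv) z (by
      rw [← cancel_mono D.isoSpec.hom, Category.assoc, hz, Category.assoc, Category.assoc, ← reassoc_of% hg,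
        Iso.inv_hom_id, Category.comp_id]
      rfl)
    have sq : IsPullback (pullback.fst x (Spec.map κ.appTop))
        (pullback.snd x (Spec.map κ.appTop) ≫ P''.isoSpec.inv) (x ≫ P.isoSpec.inv) κ :=
      (IsPullback.of_hasPullback x (Spec.map κ.appTop)).paste_vert (IsPullback.of_vert_isIso ⟨hκ⟩)
    constructor
    · exact sq.isoPullback_hom_fst ▸ (MorphismProperty.cancel_left_of_respectsIso @Flat _ _).2 h1
    · exact sq.isoPullback_hom_fst ▸ (MorphismProperty.cancel_left_of_respectsIso @Surjective _ _).2 h2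
  · show κ.appTop t = 0
    rw [← hl, Scheme.Hom.comp_appTop, CommRingCat.comp_apply, ht, map_zero]
  · intro a ha
    let W := P.basicOpen (g.appTop a)
    have hW : Disjoint (Set.range (W.ι ≫ g)) (Set.range zs) := by
      rw [Set.disjoint_left]
      rintro _ ⟨w, rfl⟩ ⟨z, hz⟩
      refine Set.eq_empty_iff_forall_notMem.1 ha (D.isoSpec.hom (zs z)) ⟨⟨z, rfl⟩, ?_⟩
      have hw : g w.1 ∈ D.basicOpen a := by
        show w.1 ∈ g ⁻¹ᵁ D.basicOpen a
        rw [Scheme.preimage_basicOpen_top]
        exact w.2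
      rw [show (W.ι ≫ g) w = g w.1 from rfl] at hz
      rw [hz]
      have := Scheme.toSpecΓ_preimage_basicOpen D a
      rw [← this] at hw
      exact hw
    obtain ⟨y, hy⟩ := hopen _ W.ι hW
    have h0 : W.ι.appTop t = 0 := by
      rw [← hy, Scheme.Hom.comp_appTop, CommRingCat.comp_apply, ht, map_zero]
    have h1 : t |_ W = 0 := by
      rw [Scheme.Opens.ι_appTop] at h0
      have h0' : (P.presheaf.map (homOfLE le_top).op t : Γ(P, W.ι ''ᵁ ⊤)) = 0 := h0
      have h0'' := congrArg (P.presheaf.map (eqToHom W.ι_image_top.symm).op).hom h0'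
      rw [map_zero] at h0''
      rw [← h0'', TopCat.Presheaf.restrictOpen]
      show _ = (P.presheaf.map (homOfLE le_top).op ≫ P.presheaf.map (eqToHom W.ι_image_top.symm).op) t
      rw [← Functor.map_comp]
      rfl
    haveI := (isAffineOpen_top P).isLocalization_basicOpen (g.appTop a)
    obtain ⟨⟨_, n, rfl⟩, hn⟩ := (IsLocalization.map_eq_zero_iff (Submonoid.powers (g.appTop a)) Γ(P, W) t).1 h1
    refine ⟨n, ?_⟩
    rw [Algebra.smul_def, map_pow]
    exact hn

end Groth.Agent.GlueIso
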