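import Groth.Agent.GlueIso.Main
import Groth.Agent.GlueIso.Closed
import Groth.Agent.FpqcHom.Desc
import Groth.Agent.AlgSpLib.FpqcBase
import Groth.Agent.AlgSpLib.FpqcBC

/-!
# Values on two lifts to a flat modification agree
-/

set_option autoImplicit false
universe u

open CategoryTheory CategoryTheory.Limits AlgebraicGeometry

set_option backward.isDefEq.respectTransparency false

namespace Groth.Agent.GlueIso

open _root_.AlgSp Groth.Agent.AlgSpLib

variable {S : Scheme.{u}}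

/-- flat pieces of the modification over an affine chart -/
theorem exists_pieces_of_chart {X Y Z U : Space S} (f : Y ⟶ X) (hqc : IsQuasiCompactMor f.hom) (i : Z ⟶ X)
    (hi : RepWith @IsClosedImmersion i.hom) (hifp : LocP @LocallyOfFinitePresentation i.hom)
    (hflat : ∀ y, Points.map f.hom y ∈ Set.range (Points.map i.hom) → IsFlatAtMor f.hom y)
    (j : U ⟶ X) (hj : RepWith @IsOpenImmersion j.hom)
    (hU : Set.range (Points.map j.hom) = (Set.range (Points.map i.hom))ᶜ)
    {V : Over S} [IsAffine V.left] (b : (yon S).obj V ⟶ X.obj) (hb : RepWith @Etale b) :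
    ∃ (m : ℕ) (W : ULift.{u} (Fin m) → Over S) (q : ∀ k, (yon S).obj (W k) ⟶ pullback f.hom b),
      IsFpqcCover (fun k => (yon S).obj (W k)) q ∧ ∀ k, IsAffine (W k).left ∧ RepWith @Flat (q k) ∧
        ((∃ z : (yon S).obj (W k) ⟶ U.obj, z ≫ j.hom = q k ≫ pullback.snd f.hom b ≫ b) ∨
          ∃ c : W k ⟶ V, (yon S).map c = q k ≫ pullback.snd f.hom b ∧ Flat c.left) := by
  classical
  obtain ⟨ZV, zf, zs, sqZ, hzs⟩ := exists_repWith hi b
  haveI : IsClosedImmersion zs.left := hzs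
  haveI : LocallyOfFinitePresentation zs.left := hifp zf b zs (repWith_baseChange sqZ.flip hb) hb sqZ.w
  have hrange : ∀ v : ↥V.left, Points.ofPt b v ∈ Set.range (Points.map i.hom) ↔ v ∈ Set.range zs.left := by
    intro v
    constructor
    · rintro ⟨z, hz⟩
      obtain ⟨p, -, hp⟩ := exists_point_of_isPullback sqZ z (Points.ofScheme V v)
        (hz.trans (Points.ofPt_eq_map_ofScheme b v))
      obtain ⟨w, rfl⟩ := (Points.schemeEquiv ZV).surjective p
      refine ⟨w, (Points.schemeEquiv V).injective ?_⟩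
      show Points.ofPt (𝟙 _) (zs.left w) = Points.ofScheme V v
      rw [← ofPt_comp, Category.comp_id, ← hp]
      exact Points.ofPt_eq_map_ofScheme _ _
    · rintro ⟨w, rfl⟩
      exact ⟨Points.ofPt zf w, by rw [Points.map_ofPt, sqZ.w, ofPt_comp]⟩
  have sqY := IsPullback.of_hasPullback f.hom b
  have hYV := isAlgSpace_of_isPullback_space X.property Y.property (IsAlgSpace.yon_obj V) sqY
  have hcY : IsQuasiCompactSp (pullback f.hom b) :=
    hqc (IsAlgSpace.yon_obj V) (isQuasiCompactSp_yon V) b _ _ sqY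
  have := compactSpace_of_isQuasiCompactSp hcY
  obtain ⟨Q, π, hQa, hπ, hπs⟩ := exists_affine_chart_of_compact hYV
  obtain ⟨h, hh⟩ := exists_map_eq (π ≫ pullback.snd f.hom b)
  have hcomm : (π ≫ pullback.fst f.hom b) ≫ f.hom = (yon S).map h ≫ b := by
    rw [Category.assoc, pullback.condition, ← Category.assoc, hh]
  let C : Set ↥Q.left := h.left ⁻¹' Set.range zs.left
  have hC : IsClosed C := zs.left.isClosedEmbedding.isClosed_range.preimage h.left.continuous
  obtain ⟨W₁, l₁, hW₁, hl₁, hl₁', hC₁⟩ := exists_flat_nhd h.left C hC fun q hq =>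
    hflat (Points.ofPt (π ≫ pullback.fst f.hom b) q) (by
      rw [Points.map_ofPt, hcomm, ofPt_comp]
      exact (hrange _).2 hq) (π ≫ pullback.fst f.hom b) b h q
      (repWith_comp hπ (repWith_baseChange sqY.flip hb)) hb hcomm rfl
  let O : V.left.Opens := ⟨(Set.range zs.left)ᶜ, zs.left.isClosedEmbedding.isClosed_range.isOpen_compl⟩
  have hOc : IsCompact (O : Set ↥V.left) := isCompact_of_isConstructible
    (Set.image_univ (f := zs.left) ▸ (zs.left.isConstructible_image .univ)).compl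
  obtain ⟨s, hs⟩ := hOc.elim_finite_subcover
    (fun g : {g : Γ(V.left, ⊤) // V.left.basicOpen g ≤ O} => (V.left.basicOpen g.1 : Set ↥V.left))
    (fun g => (V.left.basicOpen g.1).isOpen) (fun x hx => by
      obtain ⟨_, ⟨g, rfl⟩, hxg, hgO⟩ :=
        TopologicalSpace.Opens.isBasis_iff_nbhd.1 (isBasis_basicOpen V.left) (U := O) hx
      exact Set.mem_iUnion.2 ⟨⟨g, hgO⟩, hxg⟩)
  let r : Fin s.card → Γ(V.left, ⊤) := fun k => (s.equivFin.symm k).1.1
  have hr : ∀ k, V.left.basicOpen (r k) ≤ O := fun k => (s.equivFin.symm k).1.2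
  let B : Fin s.card → Q.left.Opens := fun t => Q.left.basicOpen (h.left.appTop (r t))
  have hB : ∀ t, B t = h.left ⁻¹ᵁ V.left.basicOpen (r t) := fun t => (Scheme.preimage_basicOpen_top _ _).symm
  let W : Option (Fin s.card) → Over S := fun k => match k with
    | none => Over.mk (l₁ ≫ Q.hom)
    | some t => Over.mk ((B t).ι ≫ Q.hom)
  have : ∀ k, ∃ o : W k ⟶ Q, IsAffine (W k).left ∧ Flat o.left ∧
      ((∃ z : (yon S).obj (W k) ⟶ U.obj, z ≫ j.hom = (yon S).map (o ≫ h) ≫ b) ∨ Flat (o ≫ h).left) ∧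
      (k = none → C ⊆ Set.range o.left) ∧
      (∀ t, k = some t → (B t : Set ↥Q.left) ⊆ Set.range o.left) := by
    rintro (_ | t)
    · exact ⟨Over.homMk l₁ rfl, hW₁, hl₁', Or.inr hl₁, fun _ => hC₁, fun i e => absurd e (by simp)⟩
    · let o : Over.mk ((B t).ι ≫ Q.hom) ⟶ Q := Over.homMk (B t).ι rfl
      obtain ⟨l, hl⟩ := (exists_factor_iff U.property X.property j.hom hj ((yon S).map (o ≫ h) ≫ b)).2 (by
        rintro _ ⟨x, rfl⟩
        obtain ⟨v, rfl⟩ := (Points.schemeEquiv _).surjective x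
        rw [hU]
        show Points.map ((yon S).map (o ≫ h) ≫ b) (Points.ofScheme _ v) ∉ Set.range (Points.map i.hom)
        rw [← Points.ofPt_eq_map_ofScheme, ofPt_comp, hrange]
        exact hr t (show v.1 ∈ h.left ⁻¹ᵁ V.left.basicOpen (r t) from hB t ▸ v.2))
      exact ⟨o, (isAffineOpen_top Q.left).basicOpen _, inferInstanceAs (Flat (B t).ι),
        Or.inl ⟨l, hl⟩, fun e => absurd e (by simp), fun t' e => by
          obtain rfl := Option.some.inj e
          exact (B t).range_ι.ge⟩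
  choose o hoa hof hoc hoz hoo using this
  let e : ULift.{u} (Fin (s.card + 1)) ≃ Option (Fin s.card) := Equiv.ulift.trans (finSuccEquiv _)
  have cov₂ := isFpqcCover_affine (Z := Q) (fun k => W (e k)) (fun k => o (e k)) (fun k => hoa _) (fun k => hof _)
    (fun q => by
      suffices ∃ k, q ∈ Set.range (o k).left by
        obtain ⟨k, hk⟩ := this
        obtain ⟨k, rfl⟩ := e.surjective k
        exact ⟨k, hk⟩
      by_cases hq : q ∈ C
      · exact ⟨none, hoz _ rfl hq⟩
      · obtain ⟨g, hg, hvg⟩ := Set.mem_iUnion₂.1 (hs (show h.left q ∈ O from hq))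
        refine ⟨some (s.equivFin ⟨g, hg⟩), hoo _ _ rfl ?_⟩
        rw [hB]
        show h.left q ∈ V.left.basicOpen _
        simpa [r] using hvg)
  have cov := isFpqcCover_comp hYV (fun _ : PUnit.{u + 1} => IsAlgSpace.yon_obj Q) (isFpqcCover_chart hYV hπ hπs)
    (κ := fun _ => ULift.{u} (Fin (s.card + 1))) (Xij := fun _ k => (yon S).obj (W (e k)))
    (gij := fun _ k => (yon S).map (o (e k))) (fun _ => cov₂)
  refine ⟨_, fun k => W (e k), fun k => (yon S).map (o (e k)) ≫ π,
    ⟨fun k => cov.1 ⟨PUnit.unit, k⟩, fun Z' hZ' ξ => ?_⟩, fun k => ⟨hoa _, ?_, ?_⟩⟩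
  · obtain ⟨m, W', c', h1, h2, h3, h4⟩ := cov.2 Z' hZ' ξ
    refine ⟨m, W', c', h1, h2, h3, fun j' => ?_⟩
    obtain ⟨⟨_, k⟩, l, hl⟩ := h4 j'
    exact ⟨k, l, hl⟩
  · exact (locP_iff_repWith etST_flat hYV (hYV.representable_from_yon _)).1 (cov.1 ⟨PUnit.unit, k⟩)
  · rcases hoc (e k) with ⟨z, hz⟩ | hfl
    · exact Or.inl ⟨z, by rw [hz, Functor.map_comp]; simp only [Category.assoc, reassoc_of% hh]⟩
    · exact Or.inr ⟨o (e k) ≫ h, by rw [Functor.map_comp, Category.assoc, hh], hfl⟩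

/-- values on the lifts given by two flat pieces agree -/
theorem eq_of_pieces {X Y Z FZ U X₁ X₂ : Space S} (f : Y ⟶ X) (i : Z ⟶ X)
    (hi : RepWith @IsClosedImmersion i.hom) (hifp : LocP @LocallyOfFinitePresentation i.hom)
    (iY : FZ ⟶ Y) (fZ : FZ ⟶ Z) (hFZ : IsPullback iY.hom fZ.hom f.hom i.hom) [IsIso fZ.hom]
    (j : U ⟶ X) (hj : RepWith @IsOpenImmersion j.hom)
    (hU : Set.range (Points.map j.hom) = (Set.range (Points.map i.hom))ᶜ)
    (p₁ : X₁ ⟶ X) (p₂ : X₂ ⟶ X) (hp₂ : IsSeparatedMor p₂.hom)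
    (F : ∀ {T : Sp S} (m : T ⟶ X₁.obj) (l : T ⟶ Y.obj), l ≫ f.hom = m ≫ p₁.hom → (T ⟶ X₂.obj))
    (hnat : ∀ {T T' : Sp S} (a : T' ⟶ T) (m : T ⟶ X₁.obj) (l : T ⟶ Y.obj) (h : l ≫ f.hom = m ≫ p₁.hom)
      (m' : T' ⟶ X₁.obj) (l' : T' ⟶ Y.obj) (h' : l' ≫ f.hom = m' ≫ p₁.hom), a ≫ m = m' → a ≫ l = l' →
        F m' l' h' = a ≫ F m l h)
    (hF : ∀ {T : Sp S} (m : T ⟶ X₁.obj) (l : T ⟶ Y.obj) (h : l ≫ f.hom = m ≫ p₁.hom), F m l h ≫ p₂.hom = m ≫ p₁.hom)
    (hFU : ∀ {T : Sp S} (m : T ⟶ X₁.obj) (l l' : T ⟶ Y.obj) (h : l ≫ f.hom = m ≫ p₁.hom)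
      (h' : l' ≫ f.hom = m ≫ p₁.hom) (z : T ⟶ U.obj), z ≫ j.hom = m ≫ p₁.hom → F m l h = F m l' h')
    {V V' W W' : Over S} [IsAffine V.left] [IsAffine V'.left] [IsAffine W.left] [IsAffine W'.left]
    (g : (yon S).obj V ⟶ X.obj) (g' : (yon S).obj V' ⟶ X.obj)
    (q : (yon S).obj W ⟶ pullback f.hom g) (c : W ⟶ V) (hc : (yon S).map c = q ≫ pullback.snd f.hom g)
    (hcf : Flat c.left) (q' : (yon S).obj W' ⟶ pullback f.hom g') (c' : W' ⟶ V')
    (hc' : (yon S).map c' = q' ≫ pullback.snd f.hom g') (hcf' : Flat c'.left) (hq' : RepWith @Flat q')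
    {D : Over S} [IsAffine D.left] (mD : (yon S).obj D ⟶ X₁.obj) (d : D ⟶ V) (d' : D ⟶ V')
    (hd : mD ≫ p₁.hom = (yon S).map d ≫ g) (hd' : mD ≫ p₁.hom = (yon S).map d' ≫ g')
    {T : Over S} (δ : T ⟶ D) (w : T ⟶ W) (w' : T ⟶ W') (e : w ≫ c = δ ≫ d) (e' : w' ≫ c' = δ ≫ d')
    (h : ((yon S).map w ≫ q ≫ pullback.fst f.hom g) ≫ f.hom = ((yon S).map δ ≫ mD) ≫ p₁.hom)
    (h' : ((yon S).map w' ≫ q' ≫ pullback.fst f.hom g') ≫ f.hom = ((yon S).map δ ≫ mD) ≫ p₁.hom) :
    F _ _ h = F _ _ h' := by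
  classical
  -- the pieces over the common chart
  let WD : Over S := Over.mk (pullback.fst d.left c.left ≫ D.hom)
  let πD : WD ⟶ D := Over.homMk (pullback.fst d.left c.left) rfl
  let πW : WD ⟶ W := Over.homMk (pullback.snd d.left c.left) (by
    show pullback.snd d.left c.left ≫ W.hom = pullback.fst d.left c.left ≫ D.hom
    rw [← Over.w c, ← Over.w d, pullback.condition_assoc])
  have hWD : πD ≫ d = πW ≫ c := Over.OverMorphism.ext pullback.condition
  haveI : IsAffine WD.left := inferInstanceAs (IsAffine (pullback d.left c.left))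
  haveI : Flat πD.left := inferInstanceAs (Flat (pullback.fst d.left c.left))
  let P : Over S := Over.mk (pullback.fst (πD ≫ d').left c'.left ≫ WD.hom)
  let pA : P ⟶ WD := Over.homMk (pullback.fst (πD ≫ d').left c'.left) rfl
  let pB : P ⟶ W' := Over.homMk (pullback.snd (πD ≫ d').left c'.left) (by
    show pullback.snd (πD ≫ d').left c'.left ≫ W'.hom = pullback.fst (πD ≫ d').left c'.left ≫ WD.hom
    rw [← Over.w c', ← Over.w (πD ≫ d'), pullback.condition_assoc])
  have hP : pA ≫ πD ≫ d' = pB ≫ c' := Over.OverMorphism.ext pullback.condition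
  haveI : IsAffine P.left := inferInstanceAs (IsAffine (pullback (πD ≫ d').left c'.left))
  haveI : Flat pA.left := inferInstanceAs (Flat (pullback.fst (πD ≫ d').left c'.left))
  let gP : P ⟶ D := pA ≫ πD
  haveI : Flat gP.left := inferInstanceAs (Flat (pA.left ≫ πD.left))
  let L : (yon S).obj P ⟶ Y.obj := (yon S).map (pA ≫ πW) ≫ q ≫ pullback.fst f.hom g
  let L' : (yon S).obj P ⟶ Y.obj := (yon S).map pB ≫ q' ≫ pullback.fst f.hom g'
  have hL : L ≫ f.hom = ((yon S).map gP ≫ mD) ≫ p₁.hom := by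
    simp only [L, gP, Category.assoc, pullback.condition, hd, ← reassoc_of% hc, ← Functor.map_comp_assoc, hWD]
  have hL' : L' ≫ f.hom = ((yon S).map gP ≫ mD) ≫ p₁.hom := by
    simp only [L', gP, Category.assoc, pullback.condition, hd', ← reassoc_of% hc', ← Functor.map_comp_assoc, hP]
  let u := F _ L hL
  let v := F _ L' hL'
  -- it suffices that the values agree over the product
  obtain ⟨a, ha, ha'⟩ : ∃ a : T ⟶ P, ((yon S).map a ≫ (yon S).map gP ≫ mD = (yon S).map δ ≫ mD ∧
      (yon S).map a ≫ L = (yon S).map w ≫ q ≫ pullback.fst f.hom g) ∧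
      (yon S).map a ≫ L' = (yon S).map w' ≫ q' ≫ pullback.fst f.hom g' := by
    let a₀ : T ⟶ WD := Over.homMk (pullback.lift δ.left w.left (congrArg (fun k => k.left) e.symm)) (by
      show pullback.lift _ _ _ ≫ pullback.fst d.left c.left ≫ D.hom = T.hom
      rw [pullback.lift_fst_assoc, Over.w δ])
    have h1 : a₀ ≫ πD = δ := Over.OverMorphism.ext (pullback.lift_fst _ _ _)
    have h2 : a₀ ≫ πW = w := Over.OverMorphism.ext (pullback.lift_snd _ _ _)
    let a : T ⟶ P := Over.homMk (pullback.lift a₀.left w'.left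
        (congrArg (fun k => k.left) (show a₀ ≫ πD ≫ d' = w' ≫ c' by rw [reassoc_of% h1, e']))) (by
      show pullback.lift _ _ _ ≫ pullback.fst (πD ≫ d').left c'.left ≫ WD.hom = T.hom
      rw [pullback.lift_fst_assoc, Over.w a₀])
    have h3 : a ≫ pA = a₀ := Over.OverMorphism.ext (pullback.lift_fst _ _ _)
    have h4 : a ≫ pB = w' := Over.OverMorphism.ext (pullback.lift_snd _ _ _)
    refine ⟨a, ⟨?_, ?_⟩, ?_⟩
    · simp only [gP, ← Functor.map_comp_assoc, reassoc_of% h3, h1]
    · simp only [L, ← Functor.map_comp_assoc, reassoc_of% h3, h2]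
    · simp only [L', ← Functor.map_comp_assoc, h4]
  suffices huv : u = v by
    rw [hnat ((yon S).map a) _ L hL _ _ h ha.1 ha.2, hnat ((yon S).map a) _ L' hL' _ _ h' ha.1 ha']
    exact congrArg ((yon S).map a ≫ ·) huv
  obtain ⟨E, ef, es, sqE, hes⟩ := exists_repWith hp₂ (pullback.lift u v ((hF _ _ hL).trans (hF _ _ hL').symm))
  haveI : IsClosedImmersion es.left := hes
  suffices hIso : IsIso es.left by
    haveI : IsIso ((Over.forget S).map es) := hIso
    have hes' : IsIso es := isIso_of_reflects_iso es (Over.forget S)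
    have h1 := congrArg (· ≫ pullback.fst p₂.hom p₂.hom) sqE.w
    have h2 := congrArg (· ≫ pullback.snd p₂.hom p₂.hom) sqE.w
    simp only [Category.assoc, pullback.diagonal_fst, pullback.diagonal_snd, pullback.lift_fst, pullback.lift_snd,
      Category.comp_id] at h1 h2
    exact (cancel_epi ((yon S).map es)).1 (h1.symm.trans h2)
  -- the closed subscheme
  obtain ⟨ZD, zf, zs, sqZ, hzs⟩ := exists_repWith hi (mD ≫ p₁.hom)
  haveI : IsClosedImmersion zs.left := hzs
  haveI : LocallyOfFinitePresentation zs.left :=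
    ((locP_iff_repWith etST_lfp X.property hi.1).1 hifp).2 _ zf zs sqZ
  -- the agreement scheme
  let ξ : (yon S).obj WD ⟶ pullback f.hom g' :=
    pullback.lift ((yon S).map πW ≫ q ≫ pullback.fst f.hom g) ((yon S).map (πD ≫ d')) (by
      simp only [Category.assoc, pullback.condition, ← reassoc_of% hc, ← hd', hd, Functor.map_comp]
      rw [← Functor.map_comp_assoc, ← Functor.map_comp_assoc, hWD])
  obtain ⟨P', fB, fA, sqP', hfA⟩ := exists_repWith hq' ξ
  haveI : Flat fA.left := hfA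
  obtain ⟨fB, rfl⟩ := exists_map_eq fB
  have hP' : fA ≫ πD ≫ d' = fB ≫ c' := (yon S).map_injective (by
    rw [Functor.map_comp, Functor.map_comp _ fB, hc', reassoc_of% sqP'.w, pullback.lift_snd])
  let κ₀ : P' ⟶ P := Over.homMk (pullback.lift fA.left fB.left (congrArg (fun k => k.left) hP')) (by
    show pullback.lift _ _ _ ≫ pullback.fst (πD ≫ d').left c'.left ≫ WD.hom = P'.hom
    rw [pullback.lift_fst_assoc, Over.w fA])
  have hκA : κ₀ ≫ pA = fA := Over.OverMorphism.ext (pullback.lift_fst _ _ _)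
  have hκB : κ₀ ≫ pB = fB := Over.OverMorphism.ext (pullback.lift_snd _ _ _)
  have hmono : ∀ {T₀ : Over S} (a b : T₀ ⟶ P'), a ≫ κ₀ = b ≫ κ₀ → a = b := fun a b e => (yon S).map_injective
    (sqP'.hom_ext (by rw [← Functor.map_comp, ← Functor.map_comp, ← hκB, reassoc_of% e])
      (by rw [← Functor.map_comp, ← Functor.map_comp, ← hκA, reassoc_of% e]))
  have hLP' : (yon S).map κ₀ ≫ L = (yon S).map κ₀ ≫ L' := by
    simp only [L, L', ← Functor.map_comp_assoc, reassoc_of% hκA, hκB]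
    rw [reassoc_of% sqP'.w, pullback.lift_fst, Functor.map_comp, Category.assoc]
  -- lifting over the closed subscheme
  have hlift : ∀ (T₀ : Over S) (x : T₀ ⟶ P) (z : T₀ ⟶ ZD), z ≫ zs = x ≫ gP → ∃ y : T₀ ⟶ P', y ≫ κ₀ = x := by
    intro T₀ x z hz
    have huniq : ∀ l : (yon S).obj T₀ ⟶ Y.obj, l ≫ f.hom = ((yon S).map z ≫ zf) ≫ i.hom →
        l = ((yon S).map z ≫ zf) ≫ inv fZ.hom ≫ iY.hom := fun l hl => by
      have h2 := hFZ.lift_snd l ((yon S).map z ≫ zf) hl
      rw [← IsIso.eq_comp_inv] at h2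
      rw [← Category.assoc, ← h2, hFZ.lift_fst]
    have hLL : (yon S).map x ≫ L = (yon S).map x ≫ L' := by
      rw [huniq ((yon S).map x ≫ L) ?_, huniq ((yon S).map x ≫ L') ?_]
      · simp only [Category.assoc, hL', sqZ.w, ← Functor.map_comp_assoc, hz]
      · simp only [Category.assoc, hL, sqZ.w, ← Functor.map_comp_assoc, hz]
    obtain ⟨y, hy⟩ := exists_map_eq (sqP'.lift ((yon S).map (x ≫ pB)) ((yon S).map (x ≫ pA)) (by
      apply pullback.hom_ext
      · simp only [L, L', Functor.map_comp, Category.assoc] at hLL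
        simp only [ξ, Functor.map_comp, Category.assoc, pullback.lift_fst, hLL]
      · simp only [ξ, Category.assoc, pullback.lift_snd, ← hc', ← Functor.map_comp, hP]))
    have h1 : y ≫ fB = x ≫ pB := (yon S).map_injective (by rw [Functor.map_comp, hy, sqP'.lift_fst])
    have h2 : y ≫ fA = x ≫ pA := (yon S).map_injective (by rw [Functor.map_comp, hy, sqP'.lift_snd])
    refine ⟨y, Over.OverMorphism.ext (pullback.hom_ext ?_ ?_)⟩
    · exact (congrArg (fun k => k.left) (show (y ≫ κ₀) ≫ pA = x ≫ pA by rw [Category.assoc, hκA, h2]))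
    · exact (congrArg (fun k => k.left) (show (y ≫ κ₀) ≫ pB = x ≫ pB by rw [Category.assoc, hκB, h1]))
  -- finitely many affine opens covering the preimage of the closed subscheme
  let P₀ : Over S := Over.mk (pullback.fst gP.left zs.left ≫ P.hom)
  let x₀ : P₀ ⟶ P := Over.homMk (pullback.fst gP.left zs.left) rfl
  let z₀ : P₀ ⟶ ZD := Over.homMk (pullback.snd gP.left zs.left) (by
    show pullback.snd gP.left zs.left ≫ ZD.hom = pullback.fst gP.left zs.left ≫ P.hom
    rw [← Over.w zs, ← Over.w gP, pullback.condition_assoc])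
  obtain ⟨y₀, hy₀⟩ := hlift P₀ x₀ z₀ (Over.OverMorphism.ext pullback.condition.symm)
  haveI : IsAffine ZD.left := isAffine_of_isAffineHom zs.left
  haveI : IsAffine P₀.left := inferInstanceAs (IsAffine (pullback gP.left zs.left))
  obtain ⟨s, hs⟩ := (isCompact_range y₀.left.continuous).elim_finite_subcover
    (fun O : {O : P'.left.Opens // IsAffineOpen O} => (O.1 : Set ↥P'.left)) (fun O => O.1.isOpen) (fun p _ => by
      obtain ⟨O, hO, hp, -⟩ := exists_isAffineOpen_mem_and_subset (X := P'.left) (x := p) (U := ⊤) trivial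
      exact Set.mem_iUnion.2 ⟨⟨O, hO⟩, hp⟩)
  let Os : ↥s → Scheme.{u} := fun O => O.1.1.toScheme
  haveI : ∀ O, IsAffine (Os O) := fun O => O.1.2
  let κ₁ : (∐ Os) ⟶ P'.left := Sigma.desc fun O => O.1.1.ι
  haveI hκ₁ : Flat κ₁ := (IsZariskiLocalAtSource.iff_of_openCover (P := @Flat) (sigmaOpenCover Os)).2 fun O => by
    change Flat (Sigma.ι Os O ≫ κ₁)
    rw [Sigma.ι_desc]
    infer_instance
  haveI : Flat ((κ₁ ≫ κ₀.left) ≫ gP.left) := by
    have : (κ₁ ≫ κ₀.left) ≫ gP.left = κ₁ ≫ fA.left ≫ πD.left := by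
      rw [← hκA]
      simp [gP]
    rw [this]
    infer_instance
  let PS : Over S := Over.mk (κ₁ ≫ P'.hom)
  let k₁ : PS ⟶ P' := Over.homMk κ₁ rfl
  obtain ⟨el, hel⟩ : ∃ el : (yon S).obj PS ⟶ (yon S).obj E, el ≫ (yon S).map es = (yon S).map (k₁ ≫ κ₀) := by
    have huv : (yon S).map (k₁ ≫ κ₀) ≫ u = (yon S).map (k₁ ≫ κ₀) ≫ v := by
      rw [← hnat ((yon S).map (k₁ ≫ κ₀)) _ L hL _ ((yon S).map (k₁ ≫ κ₀) ≫ L) (by simp only [Category.assoc, hL]) rfl rfl,
        ← hnat ((yon S).map (k₁ ≫ κ₀)) _ L' hL' _ ((yon S).map (k₁ ≫ κ₀) ≫ L) (by simp only [Category.assoc, hL]) rfl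
          (by rw [Functor.map_comp, Category.assoc, Category.assoc, hLP'])]
    exact ⟨sqE.lift ((yon S).map (k₁ ≫ κ₀) ≫ u) ((yon S).map (k₁ ≫ κ₀))
      (pullback.hom_ext (by simp only [Category.assoc, pullback.lift_fst, pullback.diagonal_fst, Category.comp_id]) (by simp only [Category.assoc, pullback.lift_snd, pullback.diagonal_snd, Category.comp_id, huv])), sqE.lift_snd _ _ _⟩
  obtain ⟨el, rfl⟩ := exists_map_eq el
  refine isIso_of_modification gP.left (κ₁ ≫ κ₀.left) zs.left ?_ es.left el.left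
    (congrArg (fun k => k.left) ((yon S).map_injective (((yon S).map_comp _ _).trans hel) : el ≫ es = k₁ ≫ κ₀)) ?_
  · intro T₀ x z hz
    let T' : Over S := Over.mk (x ≫ P.hom)
    let x' : T' ⟶ P := Over.homMk x rfl
    let z' : T' ⟶ ZD := Over.homMk z (by
      show z ≫ ZD.hom = x ≫ P.hom
      rw [← Over.w zs, ← Over.w gP, reassoc_of% hz])
    obtain ⟨y, hy⟩ := hlift T' x' z' (Over.OverMorphism.ext hz)
    have sq : IsPullback (pullback.fst y.left κ₁) (pullback.snd y.left κ₁) x (κ₁ ≫ κ₀.left) := by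
      refine ⟨⟨?_⟩, ⟨PullbackCone.IsLimit.mk _ (fun t => pullback.lift t.fst t.snd ?_)
        (fun t => pullback.lift_fst _ _ _) (fun t => pullback.lift_snd _ _ _)
        (fun t m e₁ e₂ => pullback.hom_ext (e₁.trans (pullback.lift_fst _ _ _).symm)
          (e₂.trans (pullback.lift_snd _ _ _).symm))⟩⟩
      · rw [show x = y.left ≫ κ₀.left from congrArg (fun k => k.left) hy.symm, pullback.condition_assoc]
      · let T'' : Over S := Over.mk (t.fst ≫ T'.hom)
        have hx : x = y.left ≫ κ₀.left := congrArg (fun k => k.left) hy.symm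
        let a₁ : T'' ⟶ P' := Over.homMk t.fst rfl ≫ y
        let a₂ : T'' ⟶ P' := Over.homMk (t.snd ≫ κ₁) (by
          show (t.snd ≫ κ₁) ≫ P'.hom = t.fst ≫ x ≫ P.hom
          rw [← Over.w κ₀, Category.assoc, ← reassoc_of% t.condition])
        exact congrArg (fun k => k.left) (hmono a₁ a₂ (Over.OverMorphism.ext (by
          show (t.fst ≫ y.left) ≫ κ₀.left = (t.snd ≫ κ₁) ≫ κ₀.left
          rw [Category.assoc, ← hx, Category.assoc]
          exact t.condition)))
    constructor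
    · rw [← sq.isoPullback_inv_fst]
      infer_instance
    · rw [← sq.isoPullback_inv_fst]
      haveI : Surjective (pullback.fst y.left κ₁) := ⟨fun t => by
        have hyz : y.left t ∈ Set.range y₀.left := by
          let k : T' ⟶ P₀ := Over.homMk (pullback.lift x z hz.symm) (pullback.lift_fst_assoc _ _ _ _)
          have hk : k ≫ x₀ = x' := Over.OverMorphism.ext (pullback.lift_fst _ _ _)
          exact ⟨k.left t, congrArg (fun a : T' ⟶ P' => a.left t) (hmono (k ≫ y₀) y (by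
            rw [Category.assoc, hy₀, hk, hy]))⟩
        obtain ⟨O, hO, hyO⟩ := Set.mem_iUnion₂.1 (hs hyz)
        obtain ⟨t', ht', -⟩ := Scheme.Pullback.exists_preimage_pullback (f := y.left) (g := κ₁) t
          (Sigma.ι Os ⟨O, hO⟩ ⟨y.left t, hyO⟩) (by
            rw [← Scheme.Hom.comp_apply, Sigma.ι_desc]
            rfl)
        exact ⟨t', ht'⟩⟩
      infer_instance
  · intro T₀ x hx
    let T' : Over S := Over.mk (x ≫ P.hom)
    let x' : T' ⟶ P := Over.homMk x rfl
    obtain ⟨zu, hzu⟩ := (exists_factor_iff U.property X.property j.hom hj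
      (((yon S).map x' ≫ (yon S).map gP ≫ mD) ≫ p₁.hom)).2 (by
        rintro _ ⟨t, rfl⟩
        obtain ⟨t, rfl⟩ := (Points.schemeEquiv _).surjective t
        rw [hU]
        show Points.map _ (Points.ofScheme T' t) ∉ Set.range (Points.map i.hom)
        rintro ⟨z, hz⟩
        rw [← Points.ofPt_eq_map_ofScheme, Category.assoc, Category.assoc, ← Functor.map_comp_assoc, ofPt_comp] at hz
        obtain ⟨p, -, hp⟩ := exists_point_of_isPullback sqZ z (Points.ofScheme D ((x' ≫ gP).left t))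
          (hz.trans (Points.ofPt_eq_map_ofScheme _ _))
        obtain ⟨p, rfl⟩ := (Points.schemeEquiv ZD).surjective p
        refine Set.disjoint_left.1 hx ⟨t, rfl⟩ ⟨p, (Points.schemeEquiv D).injective ?_⟩
        show Points.ofPt (𝟙 _) (zs.left p) = Points.ofScheme D ((x' ≫ gP).left t)
        rw [← ofPt_comp, Category.comp_id, ← hp]
        exact Points.ofPt_eq_map_ofScheme _ _)
    have huv : (yon S).map x' ≫ u = (yon S).map x' ≫ v := by
      rw [← hnat ((yon S).map x') _ L hL _ ((yon S).map x' ≫ L) (by simp only [Category.assoc, hL]) rfl rfl,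
        ← hnat ((yon S).map x') _ L' hL' _ _ (by simp only [Category.assoc, hL']) rfl rfl]
      exact hFU _ _ _ _ _ zu hzu
    obtain ⟨k, hk⟩ := exists_map_eq (sqE.lift ((yon S).map x' ≫ u) ((yon S).map x')
      (pullback.hom_ext (by simp only [Category.assoc, pullback.lift_fst, pullback.diagonal_fst, Category.comp_id]) (by simp only [Category.assoc, pullback.lift_snd, pullback.diagonal_snd, Category.comp_id, huv])))
    exact ⟨k.left, congrArg (fun a : T' ⟶ P => a.left) ((yon S).map_injective (by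
      rw [Functor.map_comp, hk, sqE.lift_snd]) : k ≫ es = x')⟩

end Groth.Agent.GlueIso
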