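import Groth.Agent.GlueIso.Glue

/-!
# Glueing morphisms into a separated space along a flat modification
-/

set_option autoImplicit false
universe u

open CategoryTheory CategoryTheory.Limits AlgebraicGeometry

set_option backward.isDefEq.respectTransparency false

namespace Groth.Agent.GlueIso

open _root_.AlgSp Groth.Agent.AlgSpLib

variable {S : Scheme.{u}}

/-- morphisms glue along an open and a flat modification along its complement -/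
theorem existsUnique_hom_of_glueing {X Y Z FZ U : Space S} (f : Y ⟶ X)
    (hqc : IsQuasiCompactMor f.hom) (i : Z ⟶ X)
    (hi : RepWith @IsClosedImmersion i.hom) (hifp : LocP @LocallyOfFinitePresentation i.hom)
    (iY : FZ ⟶ Y) (fZ : FZ ⟶ Z) (hFZ : IsPullback iY.hom fZ.hom f.hom i.hom) [IsIso fZ.hom]
    (hflat : ∀ y ∈ Set.range (Points.map iY.hom), IsFlatAtMor f.hom y) (j : U ⟶ X)
    (hj : RepWith @IsOpenImmersion j.hom) (hU : Set.range (Points.map j.hom) = (Set.range (Points.map i.hom))ᶜ)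
    {X₁ X₂ A₁U A₂U A₁Y A₂Y A₁V A₂V : Space S} (p₁ : X₁ ⟶ X) (p₂ : X₂ ⟶ X)
    (hp₂ : IsSeparatedMor p₂.hom)
    (a₁U : A₁U ⟶ X₁) (r₁U : A₁U ⟶ U) (h₁U : IsPullback a₁U.hom r₁U.hom p₁.hom j.hom)
    (a₂U : A₂U ⟶ X₂) (r₂U : A₂U ⟶ U) (h₂U : IsPullback a₂U.hom r₂U.hom p₂.hom j.hom)
    (a₁Y : A₁Y ⟶ X₁) (r₁Y : A₁Y ⟶ Y) (h₁Y : IsPullback a₁Y.hom r₁Y.hom p₁.hom f.hom)
    (a₂Y : A₂Y ⟶ X₂) (r₂Y : A₂Y ⟶ Y) (h₂Y : IsPullback a₂Y.hom r₂Y.hom p₂.hom f.hom)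
    (m₁U : A₁V ⟶ A₁U) (m₁Y : A₁V ⟶ A₁Y) (h₁V : IsPullback m₁U.hom m₁Y.hom a₁U.hom a₁Y.hom)
    (m₂U : A₂V ⟶ A₂U) (m₂Y : A₂V ⟶ A₂Y) (h₂V : IsPullback m₂U.hom m₂Y.hom a₂U.hom a₂Y.hom)
    (bU : A₁U ⟶ A₂U) (hbU : bU ≫ r₂U = r₁U) (bY : A₁Y ⟶ A₂Y) (hbY : bY ≫ r₂Y = r₁Y)
    (bV : A₁V ⟶ A₂V) (hbV₁ : bV ≫ m₂U = m₁U ≫ bU) (hbV₂ : bV ≫ m₂Y = m₁Y ≫ bY) :
    ∃! a : X₁ ⟶ X₂, a ≫ p₂ = p₁ ∧ a₁U ≫ a = bU ≫ a₂U ∧ a₁Y ≫ a = bY ≫ a₂Y := by
  classical
  have eU : bU.hom ≫ r₂U.hom = r₁U.hom := congrArg (fun q => q.hom) hbU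
  have eY : bY.hom ≫ r₂Y.hom = r₁Y.hom := congrArg (fun q => q.hom) hbY
  have eV₁ : bV.hom ≫ m₂U.hom = m₁U.hom ≫ bU.hom := congrArg (fun q => q.hom) hbV₁
  have eV₂ : bV.hom ≫ m₂Y.hom = m₁Y.hom ≫ bY.hom := congrArg (fun q => q.hom) hbV₂
  have hfs : Set.range (Points.map i.hom) ⊆ Set.range (Points.map f.hom) := by
    rintro _ ⟨z, rfl⟩
    obtain ⟨z', rfl⟩ := (isHomeomorph_map_of_isIso fZ.hom).surjective z
    exact ⟨Points.map iY.hom z', by rw [← Points.map_comp, ← Points.map_comp, hFZ.w]⟩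
  have hflat' : ∀ y, Points.map f.hom y ∈ Set.range (Points.map i.hom) → IsFlatAtMor f.hom y := by
    rintro y ⟨z, hz⟩
    obtain ⟨p, hp, -⟩ := exists_point_of_isPullback hFZ y z hz.symm
    exact hflat y ⟨p, hp⟩
  -- values on lifts
  let F : ∀ {T : Sp S} (m : T ⟶ X₁.obj) (l : T ⟶ Y.obj), l ≫ f.hom = m ≫ p₁.hom → (T ⟶ X₂.obj) :=
    fun m l h => h₁Y.lift m l h.symm ≫ bY.hom ≫ a₂Y.hom
  let FU : ∀ {T : Sp S} (m : T ⟶ X₁.obj) (z : T ⟶ U.obj), z ≫ j.hom = m ≫ p₁.hom → (T ⟶ X₂.obj) :=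
    fun m z h => h₁U.lift m z h.symm ≫ bU.hom ≫ a₂U.hom
  have hnat : ∀ {T T' : Sp S} (a : T' ⟶ T) (m : T ⟶ X₁.obj) (l : T ⟶ Y.obj) (h : l ≫ f.hom = m ≫ p₁.hom)
      (m' : T' ⟶ X₁.obj) (l' : T' ⟶ Y.obj) (h' : l' ≫ f.hom = m' ≫ p₁.hom), a ≫ m = m' → a ≫ l = l' →
        F m' l' h' = a ≫ F m l h := by
    intro T T' a m l h m' l' h' hm hl
    simp only [F]
    rw [← Category.assoc a]
    congr 1
    apply h₁Y.hom_ext
    · rw [h₁Y.lift_fst, Category.assoc, h₁Y.lift_fst, hm]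
    · rw [h₁Y.lift_snd, Category.assoc, h₁Y.lift_snd, hl]
  have hnatU : ∀ {T T' : Sp S} (a : T' ⟶ T) (m : T ⟶ X₁.obj) (z : T ⟶ U.obj) (h : z ≫ j.hom = m ≫ p₁.hom)
      (h' : (a ≫ z) ≫ j.hom = (a ≫ m) ≫ p₁.hom), FU (a ≫ m) (a ≫ z) h' = a ≫ FU m z h := by
    intro T T' a m z h h'
    simp only [FU]
    rw [← Category.assoc a]
    congr 1
    apply h₁U.hom_ext
    · rw [h₁U.lift_fst, Category.assoc, h₁U.lift_fst]
    · rw [h₁U.lift_snd, Category.assoc, h₁U.lift_snd]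
  have hF : ∀ {T : Sp S} (m : T ⟶ X₁.obj) (l : T ⟶ Y.obj) (h : l ≫ f.hom = m ≫ p₁.hom),
      F m l h ≫ p₂.hom = m ≫ p₁.hom := by
    intro T m l h
    simp only [F, Category.assoc]
    rw [h₂Y.w, reassoc_of% eY, h₁Y.lift_snd_assoc, h]
  have hFUp : ∀ {T : Sp S} (m : T ⟶ X₁.obj) (z : T ⟶ U.obj) (h : z ≫ j.hom = m ≫ p₁.hom),
      FU m z h ≫ p₂.hom = m ≫ p₁.hom := by
    intro T m z h
    simp only [FU, Category.assoc]
    rw [h₂U.w, reassoc_of% eU, h₁U.lift_snd_assoc, h]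
  have hUY : ∀ {T : Sp S} (m : T ⟶ X₁.obj) (l : T ⟶ Y.obj) (z : T ⟶ U.obj) (h : l ≫ f.hom = m ≫ p₁.hom)
      (hz : z ≫ j.hom = m ≫ p₁.hom), FU m z hz = F m l h := by
    intro T m l z h hz
    let k := h₁V.lift (h₁U.lift m z hz.symm) (h₁Y.lift m l h.symm) (by rw [h₁U.lift_fst, h₁Y.lift_fst])
    show h₁U.lift m z hz.symm ≫ bU.hom ≫ a₂U.hom = h₁Y.lift m l h.symm ≫ bY.hom ≫ a₂Y.hom
    have h1 : k ≫ m₁U.hom = h₁U.lift m z hz.symm := h₁V.lift_fst _ _ _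
    have h2 : k ≫ m₁Y.hom = h₁Y.lift m l h.symm := h₁V.lift_snd _ _ _
    rw [← h1, ← h2, Category.assoc, Category.assoc, ← reassoc_of% eV₁, h₂V.w, reassoc_of% eV₂]
  have hFU : ∀ {T : Sp S} (m : T ⟶ X₁.obj) (l l' : T ⟶ Y.obj) (h : l ≫ f.hom = m ≫ p₁.hom)
      (h' : l' ≫ f.hom = m ≫ p₁.hom) (z : T ⟶ U.obj), z ≫ j.hom = m ≫ p₁.hom → F m l h = F m l' h' :=
    fun m l l' h h' z hz => (hUY m l z h hz).symm.trans (hUY m l' z h' hz)
  -- coverings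
  obtain ⟨ι, Zc, g₀, hZc, hg₀, hcov⟩ := exists_affine_cover X.property
  choose n W q hq hWq using fun e =>
    haveI := hZc e
    exists_pieces_of_chart f hqc i hi hifp hflat' j hj hU (g₀ e) (hg₀ e)
  have hYe := fun e => isAlgSpace_of_isPullback_space X.property Y.property (IsAlgSpace.yon_obj (Zc e))
    (IsPullback.of_hasPullback f.hom (g₀ e))
  have covY := isFpqcCover_comp Y.property hYe
    (isFpqcCover_baseChange X.property (fun e => IsAlgSpace.yon_obj (Zc e)) Y.property hcov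
      (b := fun e => pullback.fst f.hom (g₀ e)) (a := fun e => pullback.snd f.hom (g₀ e))
      fun e => IsPullback.of_hasPullback f.hom (g₀ e))
    (κ := fun e => ULift.{u} (Fin (n e))) (Xij := fun e k => (yon S).obj (W e k)) (gij := fun e k => q e k) hq
  -- values on two lifts agree
  have key : ∀ {T : Sp S} (m : T ⟶ X₁.obj) (l l' : T ⟶ Y.obj) (h : l ≫ f.hom = m ≫ p₁.hom)
      (h' : l' ≫ f.hom = m ≫ p₁.hom), F m l h = F m l' h' := by
    intro T m l l' h h'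
    refine FpqcHom.hom_ext covY X₂.property l fun {T₁} z₁ r w₁ hw₁ => ?_
    refine FpqcHom.hom_ext covY X₂.property (z₁ ≫ l') fun {T₂} z₂ r' w₂ hw₂ => ?_
    let m₂ := z₂ ≫ z₁ ≫ m
    have hl : (z₂ ≫ z₁ ≫ l) ≫ f.hom = m₂ ≫ p₁.hom := by simp only [m₂, Category.assoc, h]
    have hl' : (z₂ ≫ z₁ ≫ l') ≫ f.hom = m₂ ≫ p₁.hom := by simp only [m₂, Category.assoc, h']
    have e1 : F m₂ _ hl = z₂ ≫ z₁ ≫ F m l h :=
      (hnat (z₂ ≫ z₁) m l h _ _ hl (Category.assoc _ _ _) (Category.assoc _ _ _)).trans (Category.assoc _ _ _)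
    have e2 : F m₂ _ hl' = z₂ ≫ z₁ ≫ F m l' h' :=
      (hnat (z₂ ≫ z₁) m l' h' _ _ hl' (Category.assoc _ _ _) (Category.assoc _ _ _)).trans (Category.assoc _ _ _)
    rw [← e1, ← e2]
    obtain ⟨ee, k⟩ := r
    obtain ⟨ee', k'⟩ := r'
    obtain ⟨w₁, rfl⟩ := exists_map_eq (U := T₁) (V := W ee k) w₁
    obtain ⟨w₂, rfl⟩ := exists_map_eq (U := T₂) (V := W ee' k') w₂
    obtain ⟨z₂, rfl⟩ := exists_map_eq z₂
    obtain ⟨hWa, -, hWk⟩ := hWq ee k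
    obtain ⟨hWa', hqf', hWk'⟩ := hWq ee' k'
    have hl₁ : (yon S).map z₂ ≫ z₁ ≫ l = (yon S).map (z₂ ≫ w₁) ≫ q ee k ≫ pullback.fst f.hom (g₀ ee) := by
      rw [← hw₁, Functor.map_comp, Category.assoc]
    have hl₂ : (yon S).map z₂ ≫ z₁ ≫ l' = (yon S).map w₂ ≫ q ee' k' ≫ pullback.fst f.hom (g₀ ee') := hw₂.symm
    rcases hWk with ⟨zu, hzu⟩ | ⟨c, hc, hcf⟩
    · exact hFU _ _ _ hl hl' ((yon S).map (z₂ ≫ w₁) ≫ zu) (by
        rw [← hl, hl₁, Category.assoc, hzu]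
        simp only [Category.assoc, pullback.condition])
    rcases hWk' with ⟨zu, hzu⟩ | ⟨c', hc', hcf'⟩
    · exact hFU _ _ _ hl hl' ((yon S).map w₂ ≫ zu) (by
        rw [← hl', hl₂, Category.assoc, hzu]
        simp only [Category.assoc, pullback.condition])
    haveI := hWa
    haveI := hWa'
    haveI := hZc ee
    haveI := hZc ee'
    have hV : m₂ ≫ p₁.hom = (yon S).map (z₂ ≫ w₁ ≫ c) ≫ g₀ ee := by
      rw [← hl, hl₁, Functor.map_comp, Functor.map_comp, Functor.map_comp, hc]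
      simp only [Category.assoc, pullback.condition]
    have hV' : m₂ ≫ p₁.hom = (yon S).map (w₂ ≫ c') ≫ g₀ ee' := by
      rw [← hl', hl₂, Functor.map_comp, hc']
      simp only [Category.assoc, pullback.condition]
    have sqA := IsPullback.of_hasPullback p₁.hom (g₀ ee)
    have hA := isAlgSpace_of_isPullback_space X.property X₁.property (IsAlgSpace.yon_obj (Zc ee)) sqA
    have sqM := IsPullback.of_hasPullback (pullback.snd p₁.hom (g₀ ee) ≫ g₀ ee) (g₀ ee')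
    have hM := isAlgSpace_of_isPullback_space X.property hA (IsAlgSpace.yon_obj (Zc ee')) sqM
    let μ : (yon S).obj T₂ ⟶ pullback (pullback.snd p₁.hom (g₀ ee) ≫ g₀ ee) (g₀ ee') :=
      pullback.lift (pullback.lift m₂ ((yon S).map (z₂ ≫ w₁ ≫ c)) hV) ((yon S).map (w₂ ≫ c')) (by
        rw [pullback.lift_snd_assoc, ← hV, hV'])
    obtain ⟨J, D, o, hD, -, covM⟩ := exists_affine_cover hM
    refine FpqcHom.hom_ext covM X₂.property μ fun {T₃} z₃ s δ hδ => ?_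
    haveI := hD s
    obtain ⟨δ, rfl⟩ := exists_map_eq δ
    obtain ⟨z₃, rfl⟩ := exists_map_eq z₃
    obtain ⟨d, hd⟩ := exists_map_eq (o s ≫ pullback.fst _ _ ≫ pullback.snd _ _)
    obtain ⟨d', hd'⟩ := exists_map_eq (o s ≫ pullback.snd _ _)
    have hmD : ((yon S).map δ ≫ o s ≫ pullback.fst _ _ ≫ pullback.fst _ _) = (yon S).map z₃ ≫ m₂ := by
      rw [reassoc_of% hδ, pullback.lift_fst_assoc, pullback.lift_fst]
    have e : (z₃ ≫ z₂ ≫ w₁) ≫ c = δ ≫ d := (yon S).map_injective (by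
      rw [(yon S).map_comp δ d, hd, reassoc_of% hδ, pullback.lift_fst_assoc, pullback.lift_snd, ← Functor.map_comp]
      simp only [Category.assoc])
    have e' : (z₃ ≫ w₂) ≫ c' = δ ≫ d' := (yon S).map_injective (by
      rw [(yon S).map_comp δ d', hd', reassoc_of% hδ, pullback.lift_snd, ← Functor.map_comp, Category.assoc])
    have hh : ((yon S).map (z₃ ≫ z₂ ≫ w₁) ≫ q ee k ≫ pullback.fst f.hom (g₀ ee)) ≫ f.hom =
        ((yon S).map δ ≫ o s ≫ pullback.fst _ _ ≫ pullback.fst _ _) ≫ p₁.hom := by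
      rw [hmD, Category.assoc ((yon S).map z₃) m₂ p₁.hom, ← hl, hl₁]
      simp only [Functor.map_comp, Category.assoc]
    have hh' : ((yon S).map (z₃ ≫ w₂) ≫ q ee' k' ≫ pullback.fst f.hom (g₀ ee')) ≫ f.hom =
        ((yon S).map δ ≫ o s ≫ pullback.fst _ _ ≫ pullback.fst _ _) ≫ p₁.hom := by
      rw [hmD, Category.assoc ((yon S).map z₃) m₂ p₁.hom, ← hl', hl₂]
      simp only [Functor.map_comp, Category.assoc]
    rw [← hnat ((yon S).map z₃) _ _ hl _ _ hh hmD.symm (by rw [hl₁]; simp only [Functor.map_comp, Category.assoc]),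
      ← hnat ((yon S).map z₃) _ _ hl' _ _ hh' hmD.symm (by rw [hl₂]; simp only [Functor.map_comp, Category.assoc])]
    exact eq_of_pieces f i hi hifp iY fZ hFZ j hj hU p₁ p₂ hp₂ F hnat hF hFU (g₀ ee) (g₀ ee') (q ee k) c hc hcf
      (q ee' k') c' hc' hcf' hqf' (o s ≫ pullback.fst _ _ ≫ pullback.fst _ _) d d'
      (by rw [hd]; simp only [Category.assoc, ← pullback.condition])
      (by
        rw [hd', Category.assoc, Category.assoc, Category.assoc]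
        congr 1
        rw [pullback.condition (f := p₁.hom)]
        exact pullback.condition)
      δ (z₃ ≫ z₂ ≫ w₁) (z₃ ≫ w₂) e e' hh hh'
  -- the possible values at a point
  let Val : ∀ {T : Sp S}, (T ⟶ X₁.obj) → (T ⟶ X₂.obj) → Prop := fun m y =>
    (∃ z h, y = FU m z h) ∨ (∃ l h, y = F m l h)
  have hVal : ∀ {T : Sp S} {m : T ⟶ X₁.obj} {y y' : T ⟶ X₂.obj}, Val m y → Val m y' → y = y' := by
    rintro T m y y' (⟨z, h, rfl⟩ | ⟨l, h, rfl⟩) (⟨z', h', rfl⟩ | ⟨l', h', rfl⟩)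
    · haveI := mono_of_repWith_immersion (repWith_mono (P := @IsOpenImmersion) (Q := @IsImmersion)
        (fun _ _ g hg => have : IsOpenImmersion g := hg; inferInstance) hj)
      obtain rfl : z = z' := (cancel_mono j.hom).1 (h.trans h'.symm)
      rfl
    · exact hUY m l' z h' h
    · exact (hUY m l z' h h').symm
    · exact key m l l' h h'
  have hValnat : ∀ {T T' : Sp S} (a : T' ⟶ T) {m : T ⟶ X₁.obj} {y : T ⟶ X₂.obj}, Val m y →
      Val (a ≫ m) (a ≫ y) := by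
    rintro T T' a m y (⟨z, h, rfl⟩ | ⟨l, h, rfl⟩)
    · have h' : (a ≫ z) ≫ j.hom = (a ≫ m) ≫ p₁.hom := by simp only [Category.assoc, h]
      exact Or.inl ⟨a ≫ z, h', (hnatU a m z h h').symm⟩
    · have h' : (a ≫ l) ≫ f.hom = (a ≫ m) ≫ p₁.hom := by simp only [Category.assoc, h]
      exact Or.inr ⟨a ≫ l, h', (hnat a m l h _ _ h' rfl rfl).symm⟩
  -- a covering of the source on which values are given
  have hdata : ∀ e, ∃ (m : ℕ) (W' : ULift.{u} (Fin m) → Over S) (c : ∀ k, W' k ⟶ Zc e), (∀ k, IsAffine (W' k).left) ∧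
      (∀ k, Flat (c k).left) ∧ (∀ v : ↥(Zc e).left, ∃ k, v ∈ Set.range (c k).left) ∧
      ∀ k, (∃ l : (yon S).obj (W' k) ⟶ U.obj, l ≫ j.hom = (yon S).map (c k) ≫ g₀ e) ∨
        ∃ l : (yon S).obj (W' k) ⟶ Y.obj, l ≫ f.hom = (yon S).map (c k) ≫ g₀ e := fun e => by
    haveI := hZc e
    exact exists_cover_of_chart f hqc i hi hifp hfs hflat' j hj hU (g₀ e) (hg₀ e)
  choose n' W' c' hWa hcf hcs hcl using hdata
  have covX := isFpqcCover_comp X.property (fun e => IsAlgSpace.yon_obj (Zc e))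
    hcov (κ := fun e => ULift.{u} (Fin (n' e))) (Xij := fun e k => (yon S).obj (W' e k))
    (gij := fun e k => (yon S).map (c' e k))
    (fun e => haveI := hZc e; isFpqcCover_affine (W' e) (c' e) (hWa e) (hcf e) (hcs e))
  let wr : ∀ r : (Σ e, ULift.{u} (Fin (n' e))), (yon S).obj (W' r.1 r.2) ⟶ X.obj :=
    fun r => (yon S).map (c' r.1 r.2) ≫ g₀ r.1
  have cov₁ := isFpqcCover_baseChange X.property (fun r : (Σ e, ULift.{u} (Fin (n' e))) => IsAlgSpace.yon_obj (W' r.1 r.2))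
    X₁.property covX (b := fun r => pullback.fst p₁.hom (wr r)) (a := fun r => pullback.snd p₁.hom (wr r))
    fun r => IsPullback.of_hasPullback p₁.hom (wr r)
  have hexy : ∀ r, ∃ y, Val (pullback.fst p₁.hom (wr r)) y := fun r => by
    rcases hcl r.1 r.2 with ⟨z, hz⟩ | ⟨l, hl⟩
    · exact ⟨_, Or.inl ⟨pullback.snd _ _ ≫ z, by rw [Category.assoc, hz, pullback.condition], rfl⟩⟩
    · exact ⟨_, Or.inr ⟨pullback.snd _ _ ≫ l, by rw [Category.assoc, hl, pullback.condition], rfl⟩⟩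
  choose y hy using hexy
  obtain ⟨a, ha⟩ := FpqcHom.exists_desc cov₁ X₂.property y fun r r' a b hab =>
    hVal (hValnat a (hy r)) (hab ▸ hValnat b (hy r'))
  have hval : ∀ {T : Sp S} (x : T ⟶ X₁.obj) r (l : T ⟶ pullback p₁.hom (wr r)),
      l ≫ pullback.fst _ _ = x → Val x (x ≫ a) := by
    rintro T x r l rfl
    rw [Category.assoc, ha]
    exact hValnat l (hy r)
  have hp : ∀ {T : Sp S} {m : T ⟶ X₁.obj} {y : T ⟶ X₂.obj}, Val m y → y ≫ p₂.hom = m ≫ p₁.hom := by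
    rintro T m y (⟨z, h, rfl⟩ | ⟨l, h, rfl⟩)
    · exact hFUp m z h
    · exact hF m l h
  have hvU : ∀ {T : Sp S} (x : T ⟶ A₁U.obj), Val (x ≫ a₁U.hom) (x ≫ bU.hom ≫ a₂U.hom) := fun x => by
    refine Or.inl ⟨x ≫ r₁U.hom, by rw [Category.assoc, Category.assoc, h₁U.w], ?_⟩
    simp only [FU]
    congr 1
    exact h₁U.hom_ext (h₁U.lift_fst _ _ _).symm (h₁U.lift_snd _ _ _).symm
  have hvY : ∀ {T : Sp S} (x : T ⟶ A₁Y.obj), Val (x ≫ a₁Y.hom) (x ≫ bY.hom ≫ a₂Y.hom) := fun x => by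
    refine Or.inr ⟨x ≫ r₁Y.hom, by rw [Category.assoc, Category.assoc, h₁Y.w], ?_⟩
    simp only [F]
    congr 1
    exact h₁Y.hom_ext (h₁Y.lift_fst _ _ _).symm (h₁Y.lift_snd _ _ _).symm
  refine ⟨ObjectProperty.homMk a, ⟨ObjectProperty.hom_ext _ ?_, ObjectProperty.hom_ext _ ?_,
    ObjectProperty.hom_ext _ ?_⟩, fun b ⟨_, hbU', hbY'⟩ => ObjectProperty.hom_ext _ ?_⟩
  · show a ≫ p₂.hom = p₁.hom
    refine FpqcHom.hom_ext cov₁ X.property (𝟙 _) fun z r l hl => ?_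
    rw [← Category.assoc, hp (hval z r l (hl.trans (Category.comp_id _)))]
  · show a₁U.hom ≫ a = bU.hom ≫ a₂U.hom
    refine FpqcHom.hom_ext cov₁ X₂.property a₁U.hom fun z r l hl => ?_
    exact hVal ((Category.assoc z a₁U.hom a) ▸ hval (z ≫ a₁U.hom) r l hl) (hvU z)
  · show a₁Y.hom ≫ a = bY.hom ≫ a₂Y.hom
    refine FpqcHom.hom_ext cov₁ X₂.property a₁Y.hom fun z r l hl => ?_
    exact hVal ((Category.assoc z a₁Y.hom a) ▸ hval (z ≫ a₁Y.hom) r l hl) (hvY z)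
  · show b.hom = a
    have hbU'' : a₁U.hom ≫ b.hom = bU.hom ≫ a₂U.hom := congrArg (fun q => q.hom) hbU'
    have hbY'' : a₁Y.hom ≫ b.hom = bY.hom ≫ a₂Y.hom := congrArg (fun q => q.hom) hbY'
    refine FpqcHom.hom_ext cov₁ X₂.property (𝟙 _) fun z r l hl => ?_
    refine hVal ?_ (hval z r l (hl.trans (Category.comp_id _)))
    have hx := hl.trans (Category.comp_id z)
    rcases hcl r.1 r.2 with ⟨zu, hzu⟩ | ⟨ly, hly⟩
    · refine Or.inl ⟨l ≫ pullback.snd _ _ ≫ zu, ?_, ?_⟩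
      · rw [← hx, Category.assoc, Category.assoc, Category.assoc, hzu, pullback.condition]
      · simp only [FU]
        rw [← hbU'', h₁U.lift_fst_assoc]
    · refine Or.inr ⟨l ≫ pullback.snd _ _ ≫ ly, ?_, ?_⟩
      · rw [← hx, Category.assoc, Category.assoc, Category.assoc, hly, pullback.condition]
      · simp only [F]
        rw [← hbY'', h₁Y.lift_fst_assoc]

end Groth.Agent.GlueIso
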