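import Groth.Agent.AlgSpLib.EtST
import Groth.Agent.AlgSpLib.Singleton
import Groth.Agent.AlgSpLib.Criteria
import Mathlib.RingTheory.Flat.Localization
import Mathlib.AlgebraicGeometry.Morphisms.Flat

/-!
# Flat affine neighbourhoods of closed sets of flat points
-/

set_option autoImplicit false
universe u

open CategoryTheory CategoryTheory.Limits AlgebraicGeometry

set_option backward.isDefEq.respectTransparency false

namespace Groth.Agent.GlueIso

open _root_.AlgSp Groth.Agent.AlgSpLib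

variable {S : Scheme.{u}}

/-- jointly surjective finite families of flat maps of affine schemes are fpqc coverings -/
theorem isFpqcCover_affine {Z : Over S} [IsAffine Z.left] {m : ℕ} (W : ULift.{u} (Fin m) → Over S)
    (c : ∀ j, W j ⟶ Z) (hW : ∀ j, IsAffine (W j).left) (hc : ∀ j, Flat (c j).left)
    (hs : ∀ z : ↥Z.left, ∃ j, z ∈ Set.range (c j).left) :
    IsFpqcCover (fun j => (yon S).obj (W j)) (fun j => (yon S).map (c j)) := by
  refine ⟨fun j => locP_yon_map etST_flat _ (hc j), fun Z' hZ' h => ?_⟩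
  obtain ⟨h, rfl⟩ := exists_map_eq h
  let W' : Fin m → Over S := fun j => Over.mk (pullback.fst h.left (c ⟨j⟩).left ≫ Z'.hom)
  let c' : ∀ j, W' j ⟶ Z' := fun j => Over.homMk (pullback.fst h.left (c ⟨j⟩).left) rfl
  have : ∀ j, IsAffine (W j).left := hW
  have : ∀ j, Flat (c j).left := hc
  refine ⟨m, W', c', fun j => inferInstanceAs (IsAffine (pullback h.left (c ⟨j⟩).left)),
    fun j => inferInstanceAs (Flat (pullback.fst h.left (c ⟨j⟩).left)), fun z => ?_,
    fun j => ⟨⟨j⟩, (yon S).map (Over.homMk (pullback.snd h.left (c ⟨j⟩).left) ?_), ?_⟩⟩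
  · obtain ⟨⟨j⟩, w, hw⟩ := hs (h.left z)
    obtain ⟨x, hx, -⟩ := Scheme.Pullback.exists_preimage_pullback (f := h.left) (g := (c ⟨j⟩).left) z w hw.symm
    exact ⟨j, x, hx⟩
  · show pullback.snd h.left (c ⟨j⟩).left ≫ (W ⟨j⟩).hom = pullback.fst h.left (c ⟨j⟩).left ≫ Z'.hom
    rw [← Over.w (c ⟨j⟩), ← Over.w h, pullback.condition_assoc]
  · rw [← Functor.map_comp, ← Functor.map_comp]
    exact congrArg (yon S).map (Over.OverMorphism.ext pullback.condition.symm)

/-- a closed set of flat points of an affine scheme has a flat affine neighbourhood -/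
theorem exists_flat_nhd {Q V : Scheme.{u}} [IsAffine Q] [IsAffine V] (h : Q ⟶ V) (C : Set ↥Q) (hC : IsClosed C)
    (hfl : ∀ q ∈ C, (h.stalkMap q).hom.Flat) :
    ∃ (W : Scheme.{u}) (l : W ⟶ Q), IsAffine W ∧ Flat (l ≫ h) ∧ Flat l ∧ C ⊆ Set.range l := by
  have hQ := isAffineOpen_top Q
  have hV := isAffineOpen_top V
  let φ : Γ(V, ⊤) →+* Γ(Q, ⊤) := (h.appLE ⊤ ⊤ le_top).hom
  let M : Submonoid Γ(Q, ⊤) :=
    { carrier := {g | ∀ q ∈ C, q ∈ Q.basicOpen g}
      one_mem' := fun q _ => by rw [Scheme.basicOpen_of_isUnit Q isUnit_one]; trivial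
      mul_mem' := fun {a b} ha hb q hq => by
        rw [Scheme.basicOpen_mul]
        exact ⟨ha q hq, hb q hq⟩ }
  let B' := Localization M
  have hmem : ∀ (g : Γ(Q, ⊤)) (y : PrimeSpectrum Γ(Q, ⊤)), hQ.fromSpec y ∈ Q.basicOpen g ↔ g ∉ y.asIdeal := by
    intro g y
    change y ∈ hQ.fromSpec ⁻¹ᵁ Q.basicOpen g ↔ _
    rw [hQ.fromSpec_preimage_basicOpen]
    exact Iff.rfl
  have hsurj : ∀ q : ↥Q, ∃ y, hQ.fromSpec y = q := fun q => by
    have : q ∈ Set.range hQ.fromSpec := by
      rw [hQ.range_fromSpec]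
      trivial
    exact this
  refine ⟨Spec (CommRingCat.of B'), Spec.map (CommRingCat.ofHom (algebraMap Γ(Q, ⊤) B')) ≫ hQ.fromSpec,
    inferInstance, ?_, ?_, fun q hq => ?_⟩
  rotate_left 2
  · obtain ⟨y, rfl⟩ := hsurj q
    have hd : Disjoint (M : Set Γ(Q, ⊤)) y.asIdeal :=
      Set.disjoint_left.2 fun g hg hy => (hmem g y).1 (hg _ hq) hy
    have hy : y ∈ Set.range (PrimeSpectrum.comap (algebraMap Γ(Q, ⊤) B')) := by
      rw [PrimeSpectrum.localization_comap_range B' M]
      exact hd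
    obtain ⟨z, hz⟩ := hy
    exact ⟨z, congrArg hQ.fromSpec hz⟩
  swap
  · refine MorphismProperty.comp_mem _ _ _ ?_ (inferInstanceAs (Flat hQ.fromSpec))
    rw [HasRingHomProperty.Spec_iff (P := @Flat), CommRingCat.hom_ofHom, RingHom.flat_algebraMap_iff]
    exact IsLocalization.flat B' M
  rw [Category.assoc, ← IsAffineOpen.SpecMap_appLE_fromSpec h hV hQ le_top, ← Category.assoc, ← Spec.map_comp]
  have : IsOpenImmersion hV.fromSpec := inferInstance
  have hflat : Flat (Spec.map (h.appLE ⊤ ⊤ le_top ≫ CommRingCat.ofHom (algebraMap Γ(Q, ⊤) B'))) := by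
    rw [HasRingHomProperty.Spec_iff (P := @Flat)]
    algebraize [φ]
    show ((algebraMap Γ(Q, ⊤) B').comp φ).Flat
    rw [← RingHom.algebraMap_toAlgebra φ, ← IsScalarTower.algebraMap_eq, RingHom.flat_algebraMap_iff]
    show Module.Flat Γ(V, ⊤) B'
    refine Module.flat_of_isLocalized_maximal B' B' (fun P _ => Localization.AtPrime P)
      (fun P _ => Algebra.linearMap _ _) fun P hP => ?_
    let p : Ideal Γ(Q, ⊤) := P.comap (algebraMap Γ(Q, ⊤) B')
    let y : PrimeSpectrum Γ(Q, ⊤) := ⟨p, inferInstance⟩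
    -- the point lies in the closed set
    have hq : hQ.fromSpec y ∈ C := by
      by_contra hn
      obtain ⟨_, ⟨g, rfl⟩, hyg, hgC⟩ := TopologicalSpace.Opens.isBasis_iff_nbhd.1 (isBasis_basicOpen Q)
        (U := ⟨Cᶜ, hC.isOpen_compl⟩) hn
      have hg : algebraMap Γ(Q, ⊤) B' g ∉ P := (hmem g y).1 hyg
      obtain ⟨x, i, hi, hxi⟩ := hP.exists_inv hg
      obtain ⟨⟨b, s⟩, hbs⟩ := IsLocalization.surj M x
      -- a function of the localizing set inside the prime
      have hz : algebraMap Γ(Q, ⊤) B' ((s : Γ(Q, ⊤)) - b * g) ∈ P := by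
        have : algebraMap Γ(Q, ⊤) B' ((s : Γ(Q, ⊤)) - b * g) = algebraMap Γ(Q, ⊤) B' s * i := by
          rw [map_sub, map_mul, ← hbs]
          linear_combination -(algebraMap Γ(Q, ⊤) B' (s : Γ(Q, ⊤))) * hxi
        rw [this]
        exact P.mul_mem_left _ hi
      have hM : (s : Γ(Q, ⊤)) - b * g ∈ M := fun c hc => by
        obtain ⟨z, rfl⟩ := hsurj c
        rw [hmem]
        intro hz'
        have hgz : g ∈ z.asIdeal := by
          by_contra hgz
          exact hgC ((hmem g z).2 hgz) hc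
        refine (hmem _ z).1 (s.2 _ hc) ?_
        simpa using z.asIdeal.add_mem hz' (z.asIdeal.mul_mem_left b hgz)
      exact hP.ne_top (P.eq_top_of_isUnit_mem hz (IsLocalization.map_units B' ⟨_, hM⟩))
    -- flatness at that point
    let qq : (⊤ : Q.Opens) := ⟨hQ.fromSpec y, trivial⟩
    letI : Algebra Γ(Q, ⊤) (Q.presheaf.stalk (hQ.fromSpec y)) :=
      (Q.presheaf.germ ⊤ (hQ.fromSpec y) trivial).hom.toAlgebra
    haveI : IsLocalization.AtPrime (Q.presheaf.stalk (hQ.fromSpec y)) p := hQ.isLocalization_stalk' y trivial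
    letI : Algebra Γ(V, ⊤) (Q.presheaf.stalk (hQ.fromSpec y)) :=
      ((algebraMap Γ(Q, ⊤) (Q.presheaf.stalk (hQ.fromSpec y))).comp φ).toAlgebra
    haveI : IsScalarTower Γ(V, ⊤) Γ(Q, ⊤) (Q.presheaf.stalk (hQ.fromSpec y)) := IsScalarTower.of_algebraMap_eq' rfl
    have h1 : (algebraMap Γ(V, ⊤) (Q.presheaf.stalk (hQ.fromSpec y))).Flat := by
      have e : CommRingCat.ofHom (algebraMap Γ(V, ⊤) (Q.presheaf.stalk (hQ.fromSpec y))) =
          V.presheaf.germ ⊤ (h (hQ.fromSpec y)) trivial ≫ h.stalkMap (hQ.fromSpec y) := by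
        rw [Scheme.Hom.germ_stalkMap]
        show h.appLE ⊤ ⊤ le_top ≫ Q.presheaf.germ ⊤ _ trivial = _
        rw [← Scheme.Hom.appLE_eq_app]
        exact congrArg (· ≫ _) rfl
      have := congrArg CommRingCat.Hom.hom e
      rw [CommRingCat.hom_comp, CommRingCat.hom_ofHom] at this
      rw [this]
      refine RingHom.Flat.comp ?_ (hfl _ hq)
      letI : Algebra Γ(V, ⊤) (V.presheaf.stalk (h (hQ.fromSpec y))) := (V.presheaf.germ ⊤ _ trivial).hom.toAlgebra
      haveI := hV.isLocalization_stalk ⟨h (hQ.fromSpec y), trivial⟩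
      exact IsLocalization.flat (V.presheaf.stalk (h (hQ.fromSpec y)))
        (hV.primeIdealOf ⟨h (hQ.fromSpec y), trivial⟩).asIdeal.primeCompl
    haveI : Module.Flat Γ(V, ⊤) (Q.presheaf.stalk (hQ.fromSpec y)) := RingHom.flat_algebraMap_iff.1 h1
    exact Module.Flat.of_linearEquiv
      ((IsLocalization.algEquiv p.primeCompl (Localization.AtPrime P)
        (Q.presheaf.stalk (hQ.fromSpec y))).restrictScalars Γ(V, ⊤)).toLinearEquiv
  exact MorphismProperty.comp_mem _ _ _ hflat (inferInstanceAs (Flat hV.fromSpec))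

end Groth.Agent.GlueIso
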