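import Groth.Agent.GlueIso.Local
import Groth.Agent.AlgSpLib.FpqcLocP
import Groth.Agent.AlgSpLib.Subspace
import Mathlib.AlgebraicGeometry.Morphisms.FinitePresentation
import Mathlib.RingTheory.Spectrum.Prime.ConstructibleSet

/-!
# Isomorphisms are reflected by an open and a flat modification along its complement
-/

set_option autoImplicit false
universe u

open CategoryTheory CategoryTheory.Limits AlgebraicGeometry

set_option backward.isDefEq.respectTransparency false

namespace Groth.Agent.GlueIso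

open _root_.AlgSp Groth.Agent.AlgSpLib

variable {S : Scheme.{u}}

/-- constructible subsets of affine schemes are compact -/
theorem isCompact_of_isConstructible {W : Scheme.{u}} [IsAffine W] {C : Set ↥W}
    (hC : Topology.IsConstructible C) : IsCompact C := by
  have h := hC.preimage_of_isOpenEmbedding W.isoSpec.inv.isOpenEmbedding
  obtain ⟨R, _, φ, hφ⟩ := PrimeSpectrum.exists_range_eq_of_isConstructible h
  have hc : IsCompact (W.isoSpec.inv ⁻¹' C) := hφ ▸ isCompact_range (PrimeSpectrum.continuous_comap φ)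
  have h2 := hc.image W.isoSpec.inv.continuous
  rwa [Set.image_preimage_eq _ W.isoSpec.inv.surjective] at h2

/-- an isomorphism after base change stays one after a further base change -/
theorem isIso_snd_of_factor {X₁ X₂ Q Q₁ W P : Sp S} {a : X₁ ⟶ X₂} {q : Q ⟶ X₂} {a' : Q₁ ⟶ Q} {b : Q₁ ⟶ X₁}
    (sq : IsPullback b a' a q) [IsIso a'] {c : W ⟶ X₂} {fst : P ⟶ X₁} {snd : P ⟶ W}
    (sq' : IsPullback fst snd a c) (l : W ⟶ Q) (hl : l ≫ q = c) : IsIso snd := by
  subst hl
  have h : IsPullback (sq.lift fst (snd ≫ l) (sq'.w.trans (Category.assoc _ _ _).symm)) snd a' l :=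
    IsPullback.of_right (by rw [sq.lift_fst]; exact sq') (sq.lift_snd _ _ _) sq
  exact MorphismProperty.of_isPullback (P := MorphismProperty.isomorphisms (Sp S)) h ‹IsIso a'›

/-- finitely many flat affine pieces over an affine chart, each lifting to the open or to the modification -/
theorem exists_cover_of_chart {X Y Z U : Space S} (f : Y ⟶ X) (hqc : IsQuasiCompactMor f.hom) (i : Z ⟶ X)
    (hi : RepWith @IsClosedImmersion i.hom) (hifp : LocP @LocallyOfFinitePresentation i.hom)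
    (hfs : Set.range (Points.map i.hom) ⊆ Set.range (Points.map f.hom))
    (hflat : ∀ y, Points.map f.hom y ∈ Set.range (Points.map i.hom) → IsFlatAtMor f.hom y)
    (j : U ⟶ X) (hj : RepWith @IsOpenImmersion j.hom)
    (hU : Set.range (Points.map j.hom) = (Set.range (Points.map i.hom))ᶜ)
    {V : Over S} [IsAffine V.left] (b : (yon S).obj V ⟶ X.obj) (hb : RepWith @Etale b) :
    ∃ (m : ℕ) (W : ULift.{u} (Fin m) → Over S) (c : ∀ k, W k ⟶ V), (∀ k, IsAffine (W k).left) ∧
      (∀ k, Flat (c k).left) ∧ (∀ v : ↥V.left, ∃ k, v ∈ Set.range (c k).left) ∧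
      ∀ k, (∃ l : (yon S).obj (W k) ⟶ U.obj, l ≫ j.hom = (yon S).map (c k) ≫ b) ∨
        ∃ l : (yon S).obj (W k) ⟶ Y.obj, l ≫ f.hom = (yon S).map (c k) ≫ b := by
  classical
  -- the closed subscheme
  obtain ⟨ZV, zf, zs, sqZ, hzs⟩ := exists_repWith hi b
  haveI : IsClosedImmersion zs.left := hzs
  haveI : LocallyOfFinitePresentation zs.left := hifp zf b zs (repWith_baseChange sqZ.flip hb) hb sqZ.w
  have hrange : ∀ v : ↥V.left, Points.ofPt b v ∈ Set.range (Points.map i.hom) ↔ v ∈ Set.range zs.left := by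
    intro v
    constructor
    · rintro ⟨z, hz⟩
      obtain ⟨p, -, hp⟩ := exists_point_of_isPullback sqZ z (Points.ofScheme V v)
        (hz.trans (Points.ofPt_eq_map_ofScheme b v))
      obtain ⟨w, rfl⟩ := (Points.schemeEquiv ZV).surjective p
      refine ⟨w, (Points.schemeEquiv V).injective ?_⟩
      show Points.ofPt (𝟙 _) (zs.left w) = Points.ofScheme V v
      rw [← ofPt_comp, Category.comp_id, ← hp]
      exact Points.ofPt_eq_map_ofScheme _ _
    · rintro ⟨w, rfl⟩
      exact ⟨Points.ofPt zf w, by rw [Points.map_ofPt, sqZ.w, ofPt_comp]⟩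
  -- a chart of the modification
  have sqY := IsPullback.of_hasPullback f.hom b
  have hYV := isAlgSpace_of_isPullback_space X.property Y.property (IsAlgSpace.yon_obj V) sqY
  have hcY : IsQuasiCompactSp (pullback f.hom b) :=
    hqc (IsAlgSpace.yon_obj V) (isQuasiCompactSp_yon V) b _ _ sqY
  have := compactSpace_of_isQuasiCompactSp hcY
  obtain ⟨Q, π, hQa, hπ, hπs⟩ := exists_affine_chart_of_compact hYV
  obtain ⟨h, hh⟩ := exists_map_eq (π ≫ pullback.snd f.hom b)
  have hcomm : (π ≫ pullback.fst f.hom b) ≫ f.hom = (yon S).map h ≫ b := by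
    rw [Category.assoc, pullback.condition, ← Category.assoc, hh]
  let C : Set ↥Q.left := h.left ⁻¹' Set.range zs.left
  have hC : IsClosed C := zs.left.isClosedEmbedding.isClosed_range.preimage h.left.continuous
  obtain ⟨W₁, l₁, hW₁, hl₁, -, hC₁⟩ := exists_flat_nhd h.left C hC fun q hq =>
    hflat (Points.ofPt (π ≫ pullback.fst f.hom b) q) (by
      rw [Points.map_ofPt, hcomm, ofPt_comp]
      exact (hrange _).2 hq) (π ≫ pullback.fst f.hom b) b h q
      (repWith_comp hπ (repWith_baseChange sqY.flip hb)) hb hcomm rfl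
  -- the complement of the closed subscheme
  let O : V.left.Opens := ⟨(Set.range zs.left)ᶜ, zs.left.isClosedEmbedding.isClosed_range.isOpen_compl⟩
  have hOc : IsCompact (O : Set ↥V.left) := isCompact_of_isConstructible
    (Set.image_univ (f := zs.left) ▸ (zs.left.isConstructible_image .univ)).compl
  obtain ⟨s, hs⟩ := hOc.elim_finite_subcover
    (fun g : {g : Γ(V.left, ⊤) // V.left.basicOpen g ≤ O} => (V.left.basicOpen g.1 : Set ↥V.left))
    (fun g => (V.left.basicOpen g.1).isOpen) (fun x hx => by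
      obtain ⟨_, ⟨g, rfl⟩, hxg, hgO⟩ :=
        TopologicalSpace.Opens.isBasis_iff_nbhd.1 (isBasis_basicOpen V.left) (U := O) hx
      exact Set.mem_iUnion.2 ⟨⟨g, hgO⟩, hxg⟩)
  let r : Fin s.card → Γ(V.left, ⊤) := fun k => (s.equivFin.symm k).1.1
  have hr : ∀ k, V.left.basicOpen (r k) ≤ O := fun k => (s.equivFin.symm k).1.2
  let W : Option (Fin s.card) → Over S := fun k => match k with
    | none => Over.mk (l₁ ≫ Q.hom)
    | some i => Over.mk ((V.left.basicOpen (r i)).ι ≫ V.hom)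
  have : ∀ k, ∃ c : W k ⟶ V, IsAffine (W k).left ∧ Flat c.left ∧
      ((∃ l : (yon S).obj (W k) ⟶ U.obj, l ≫ j.hom = (yon S).map c ≫ b) ∨
        ∃ l : (yon S).obj (W k) ⟶ Y.obj, l ≫ f.hom = (yon S).map c ≫ b) ∧
      (k = none → Set.range h.left ∩ Set.range zs.left ⊆ Set.range c.left) ∧
      (∀ t, k = some t → (V.left.basicOpen (r t) : Set ↥V.left) ⊆ Set.range c.left) := by
    rintro (_ | t)
    · let o : Over.mk (l₁ ≫ Q.hom) ⟶ Q := Over.homMk l₁ rfl
      refine ⟨o ≫ h, hW₁, hl₁, Or.inr ⟨(yon S).map o ≫ π ≫ pullback.fst f.hom b, ?_⟩, fun _ => ?_,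
        fun i e => absurd e (by simp)⟩
      · rw [Category.assoc, hcomm, Functor.map_comp, Category.assoc]
      · rintro _ ⟨⟨q, rfl⟩, hz⟩
        obtain ⟨w, hw⟩ := hC₁ hz
        exact ⟨w, congrArg h.left hw⟩
    · let c : Over.mk ((V.left.basicOpen (r t)).ι ≫ V.hom) ⟶ V := Over.homMk (V.left.basicOpen (r t)).ι rfl
      obtain ⟨l, hl⟩ := (exists_factor_iff U.property X.property j.hom hj ((yon S).map c ≫ b)).2 (by
        rintro _ ⟨x, rfl⟩
        obtain ⟨v, rfl⟩ := (Points.schemeEquiv _).surjective x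
        rw [hU]
        show Points.map ((yon S).map c ≫ b) (Points.ofScheme _ v) ∉ Set.range (Points.map i.hom)
        rw [← Points.ofPt_eq_map_ofScheme, ofPt_comp, hrange]
        exact hr t v.2)
      exact ⟨c, (isAffineOpen_top V.left).basicOpen _, inferInstanceAs (Flat (V.left.basicOpen (r t)).ι),
        Or.inl ⟨l, hl⟩, fun e => absurd e (by simp), fun t' e => by
          obtain rfl := Option.some.inj e
          exact (V.left.basicOpen (r t)).range_ι.ge⟩
  choose c hca hcf hcl hcz hco using this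
  let e : ULift.{u} (Fin (s.card + 1)) ≃ Option (Fin s.card) := Equiv.ulift.trans (finSuccEquiv _)
  refine ⟨_, fun k => W (e k), fun k => c (e k), fun k => hca _, fun k => hcf _, fun v => ?_, fun k => hcl _⟩
  suffices ∃ k, v ∈ Set.range (c k).left by
    obtain ⟨k, hk⟩ := this
    obtain ⟨k, rfl⟩ := e.surjective k
    exact ⟨k, hk⟩
  by_cases hv : v ∈ Set.range zs.left
  · refine ⟨none, hcz _ rfl ⟨?_, hv⟩⟩
    obtain ⟨y, hy⟩ := hfs ((hrange v).2 hv)
    obtain ⟨p, -, hp⟩ := exists_point_of_isPullback sqY y (Points.ofScheme V v)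
      (hy.trans (Points.ofPt_eq_map_ofScheme b v))
    obtain ⟨q, rfl⟩ := ofPt_surjective hπs p
    refine ⟨q, (Points.schemeEquiv V).injective ?_⟩
    show Points.ofPt (𝟙 _) (h.left q) = Points.ofScheme V v
    rw [← ofPt_comp, Category.comp_id, ← hp, Points.map_ofPt, hh]
  · obtain ⟨g, hg, hvg⟩ := Set.mem_iUnion₂.1 (hs (show v ∈ O from hv))
    exact ⟨some (s.equivFin ⟨g, hg⟩), hco _ _ rfl (by simpa [r] using hvg)⟩

/-- the formal glueing functor reflects isomorphisms -/
theorem isIso_of_open_of_modification {X Y Z FZ U : Space S} (f : Y ⟶ X) (hqc : IsQuasiCompactMor f.hom)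
    (i : Z ⟶ X) (hi : RepWith @IsClosedImmersion i.hom) (hifp : LocP @LocallyOfFinitePresentation i.hom)
    (iY : FZ ⟶ Y) (fZ : FZ ⟶ Z) (hFZ : IsPullback iY.hom fZ.hom f.hom i.hom) [IsIso fZ]
    (hflat : ∀ y ∈ Set.range (Points.map iY.hom), IsFlatAtMor f.hom y) (j : U ⟶ X)
    (hj : RepWith @IsOpenImmersion j.hom) (hU : Set.range (Points.map j.hom) = (Set.range (Points.map i.hom))ᶜ)
    {X₁ X₂ QU QU₁ QY QY₁ : Space S} (p₂ : X₂ ⟶ X) (a : X₁ ⟶ X₂)
    (qU : QU ⟶ X₂) (rU : QU ⟶ U) (hQU : IsPullback qU.hom rU.hom p₂.hom j.hom) (aU : QU₁ ⟶ QU)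
    (bU : QU₁ ⟶ X₁) (hQU₁ : IsPullback bU.hom aU.hom a.hom qU.hom) [IsIso aU] (qY : QY ⟶ X₂) (rY : QY ⟶ Y)
    (hQY : IsPullback qY.hom rY.hom p₂.hom f.hom) (aY : QY₁ ⟶ QY) (bY : QY₁ ⟶ X₁)
    (hQY₁ : IsPullback bY.hom aY.hom a.hom qY.hom) [IsIso aY] : IsIso a.hom := by
  haveI : IsIso aU.hom := ⟨(inv aU).hom, congrArg (fun q => q.hom) (IsIso.hom_inv_id aU),
    congrArg (fun q => q.hom) (IsIso.inv_hom_id aU)⟩
  haveI : IsIso aY.hom := ⟨(inv aY).hom, congrArg (fun q => q.hom) (IsIso.hom_inv_id aY),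
    congrArg (fun q => q.hom) (IsIso.inv_hom_id aY)⟩
  haveI : IsIso fZ.hom := ⟨(inv fZ).hom, congrArg (fun q => q.hom) (IsIso.hom_inv_id fZ),
    congrArg (fun q => q.hom) (IsIso.inv_hom_id fZ)⟩
  have hfs : Set.range (Points.map i.hom) ⊆ Set.range (Points.map f.hom) := by
    rintro _ ⟨z, rfl⟩
    obtain ⟨z', rfl⟩ := (isHomeomorph_map_of_isIso fZ.hom).surjective z
    exact ⟨Points.map iY.hom z', by rw [← Points.map_comp, ← Points.map_comp, hFZ.w]⟩
  have hflat' : ∀ y, Points.map f.hom y ∈ Set.range (Points.map i.hom) → IsFlatAtMor f.hom y := by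
    rintro y ⟨z, hz⟩
    obtain ⟨p, hp, -⟩ := exists_point_of_isPullback hFZ y z hz.symm
    exact hflat y ⟨p, hp⟩
  have hI := isLocalOnBase_isomorphisms (S := S)
  obtain ⟨ι, Zc, g₀, hZc, hg₀, hcov⟩ := exists_affine_cover X.property
  refine of_forall_affine hI X₁.property X₂.property a.hom fun T hT g P fst snd sq => ?_
  have hP := isAlgSpace_of_isPullback_space X₂.property X₁.property (IsAlgSpace.yon_obj T) sq
  obtain ⟨m, W, c, hW, hc, hs, hl⟩ := hcov.2 T hT (g ≫ p₂.hom)
  have cov₁ := isFpqcCover_affine (fun k : ULift.{u} (Fin m) => W k.down) (fun k => c k.down) (fun k => hW k.down)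
    (fun k => hc k.down) (fun t => let ⟨k, hk⟩ := hs t; ⟨⟨k⟩, hk⟩)
  have sq₁ := fun k : ULift.{u} (Fin m) => IsPullback.of_hasPullback snd ((yon S).map (c k.down))
  refine (hI _ _ (IsAlgSpace.yon_obj T) (fun _ => IsAlgSpace.yon_obj _) cov₁ snd hP _ _ _
    (fun k => isAlgSpace_of_isPullback_space (IsAlgSpace.yon_obj T) hP (IsAlgSpace.yon_obj _) (sq₁ k)) sq₁).2
    fun ⟨k⟩ => ?_
  obtain ⟨e, l, hle⟩ := hl k
  obtain ⟨l, rfl⟩ : ∃ l' : (yon S).obj (W k) ⟶ (yon S).obj (Zc e), l' = l := ⟨l, rfl⟩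
  obtain ⟨l, rfl⟩ := exists_map_eq l
  -- pull back the cover of the chart
  have : IsAffine (Zc e).left := hZc e
  obtain ⟨n, W', c', hW', hc', hs', hl'⟩ := exists_cover_of_chart f hqc i hi hifp hfs hflat' j hj hU (g₀ e) (hg₀ e)
  have : IsAffine (W k).left := hW k
  let V : ULift.{u} (Fin n) → Over S := fun r => Over.mk (pullback.fst l.left (c' r).left ≫ (W k).hom)
  let d : ∀ r, V r ⟶ W k := fun r => Over.homMk (pullback.fst l.left (c' r).left) rfl
  let d' : ∀ r, V r ⟶ W' r := fun r => Over.homMk (pullback.snd l.left (c' r).left) (by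
    show pullback.snd l.left (c' r).left ≫ (W' r).hom = pullback.fst l.left (c' r).left ≫ (W k).hom
    rw [← Over.w (c' r), ← Over.w l, pullback.condition_assoc])
  have hd : ∀ r, d' r ≫ c' r = d r ≫ l := fun r => Over.OverMorphism.ext pullback.condition.symm
  have cov₂ := isFpqcCover_affine V d
    (fun r => have := hW' r; inferInstanceAs (IsAffine (pullback l.left (c' r).left)))
    (fun r => have := hc' r; inferInstanceAs (Flat (pullback.fst l.left (c' r).left)))
    (fun w => by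
      obtain ⟨r, w', hw'⟩ := hs' (l.left w)
      obtain ⟨x, hx, -⟩ := Scheme.Pullback.exists_preimage_pullback (f := l.left) (g := (c' r).left) w w' hw'.symm
      exact ⟨r, x, hx⟩)
  have hP₁ := isAlgSpace_of_isPullback_space (IsAlgSpace.yon_obj T) hP (IsAlgSpace.yon_obj _) (sq₁ ⟨k⟩)
  have sq₂ := fun r => IsPullback.of_hasPullback (pullback.snd snd ((yon S).map (c k))) ((yon S).map (d r))
  refine (hI _ _ (IsAlgSpace.yon_obj _) (fun _ => IsAlgSpace.yon_obj _) cov₂ _ hP₁ _ _ _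
    (fun r => isAlgSpace_of_isPullback_space (IsAlgSpace.yon_obj _) hP₁ (IsAlgSpace.yon_obj _) (sq₂ r)) sq₂).2
    fun r => ?_
  have sqA : IsPullback (_ ≫ _ ≫ fst) _ a.hom (((yon S).map (d r) ≫ (yon S).map (c k)) ≫ g) :=
    (Category.assoc _ _ fst) ▸ (((sq₂ r).paste_horiz (sq₁ ⟨k⟩)).paste_horiz sq)
  have hx : (((yon S).map (d r) ≫ (yon S).map (c k)) ≫ g) ≫ p₂.hom = (yon S).map (d' r) ≫ (yon S).map (c' r) ≫ g₀ e := by
    rw [Category.assoc, Category.assoc, ← hle, ← (yon S).map_comp_assoc, ← (yon S).map_comp_assoc, hd]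
  rcases hl' r with ⟨z, hz⟩ | ⟨z, hz⟩
  · exact isIso_snd_of_factor hQU₁ sqA (hQU.lift _ ((yon S).map (d' r) ≫ z)
      (by rw [hx]; simp only [Category.assoc, hz])) (hQU.lift_fst _ _ _)
  · exact isIso_snd_of_factor hQY₁ sqA (hQY.lift _ ((yon S).map (d' r) ≫ z)
      (by rw [hx]; simp only [Category.assoc, hz])) (hQY.lift_fst _ _ _)

end Groth.Agent.GlueIso
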