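import Mathlib

/-!
# Torsion elements vanishing on a flat modification
-/

set_option autoImplicit false
universe u

open TensorProduct

namespace Groth.Agent.GlueIso

variable {A C C' : Type u} [CommRing A] [CommRing C] [CommRing C'] [Algebra A C] [Algebra C C'] [Algebra A C']
  [IsScalarTower A C C']

/-- faithful flatness modulo an ideal gives injectivity on tensors with modules it kills -/
theorem lTensor_injective_of_kills (I : Ideal A)
    (hff : Module.FaithfullyFlat (C ⧸ I.map (algebraMap A C)) ((C ⧸ I.map (algebraMap A C)) ⊗[C] C'))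
    (N : Type u) [AddCommGroup N] [Module A N] (hN : ∀ a ∈ I, ∀ x : N, a • x = 0) :
    Function.Injective ((Algebra.linearMap C C').restrictScalars A |>.rTensor N) := by
  let J := I.map (algebraMap A C)
  let P := C ⊗[A] N
  have hP : Module.IsTorsionBySet C P (J : Set C) := by
    have : J ≤ Module.annihilator C P := Ideal.map_le_iff_le_comap.2 fun a ha => by
      refine Ideal.mem_comap.2 (Module.mem_annihilator.2 fun p => ?_)
      induction p using TensorProduct.induction_on with
      | zero => exact smul_zero _
      | add p q hp hq => rw [smul_add, hp, hq, add_zero]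
      | tmul c x => rw [algebraMap_smul, ← TensorProduct.tmul_smul, hN a ha, TensorProduct.tmul_zero]
    exact fun p j => Module.mem_annihilator.1 (this j.2) p
  letI : Module (C ⧸ J) P := hP.module
  haveI : IsScalarTower C (C ⧸ J) P := hP.isScalarTower
  let R' := (C ⧸ J) ⊗[C] C'
  -- the comparison
  let θ : C' ⊗[C] P →ₗ[C] R' ⊗[C ⧸ J] P := TensorProduct.lift (LinearMap.mk₂ C
    (fun c' p => ((1 : C ⧸ J) ⊗ₜ[C] c') ⊗ₜ[C ⧸ J] p)
    (fun x y p => by rw [TensorProduct.tmul_add, TensorProduct.add_tmul])
    (fun c x p => by rw [← TensorProduct.smul_tmul, ← TensorProduct.smul_tmul', ← TensorProduct.smul_tmul'])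
    (fun x p q => by rw [TensorProduct.tmul_add])
    (fun c x p => by rw [TensorProduct.tmul_smul]))
  have hinj : Function.Injective fun p : P => (1 : C') ⊗ₜ[C] p := by
    intro p q e
    exact Module.FaithfullyFlat.tensorProduct_mk_injective (A := C ⧸ J) (B := R') P (congrArg θ e)
  intro p q e
  refine hinj ((TensorProduct.AlgebraTensorModule.cancelBaseChange A C C C' N).injective ?_)
  have key : ∀ p : P, TensorProduct.AlgebraTensorModule.cancelBaseChange A C C C' N ((1 : C') ⊗ₜ[C] p) =
      ((Algebra.linearMap C C').restrictScalars A).rTensor N p := by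
    intro p
    induction p using TensorProduct.induction_on with
    | zero => simp
    | add p q hp hq => rw [TensorProduct.tmul_add, map_add, map_add, hp, hq]
    | tmul c x => simp [Algebra.algebraMap_eq_smul_one]
  rw [key, key, e]

/-- the same for modules killed by a power of the ideal -/
theorem lTensor_injective_of_kills_pow [Module.Flat A C] [Module.Flat A C'] (I : Ideal A)
    (hff : Module.FaithfullyFlat (C ⧸ I.map (algebraMap A C)) ((C ⧸ I.map (algebraMap A C)) ⊗[C] C'))
    (n : ℕ) : ∀ (N : Type u) [AddCommGroup N] [Module A N], (∀ a ∈ I ^ n, ∀ x : N, a • x = 0) →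
    Function.Injective ((Algebra.linearMap C C').restrictScalars A |>.rTensor N) := by
  induction n with
  | zero =>
    intro N _ _ h p q _
    have : Subsingleton N := ⟨fun x y => by
      have hx := h 1 (by simp) x
      have hy := h 1 (by simp) y
      rw [one_smul] at hx hy
      rw [hx, hy]⟩
    exact Subsingleton.elim p q
  | succ n ih =>
    intro N _ _ h
    let φ := (Algebra.linearMap C C').restrictScalars A
    let N₁ : Submodule A N := I ^ n • ⊤
    have h₁ := lTensor_injective_of_kills I hff ↥N₁ (fun a ha x => by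
      apply Subtype.ext
      show a • (x : N) = 0
      refine Submodule.smul_induction_on x.2 (fun b hb m _ => ?_) (fun y z hy hz => by rw [smul_add, hy, hz, add_zero])
      rw [← mul_smul]
      exact h _ (pow_succ' I n ▸ Ideal.mul_mem_mul ha hb) m)
    have h₂ := ih (N ⧸ N₁) (fun a ha x => by
      obtain ⟨m, rfl⟩ := Submodule.Quotient.mk_surjective _ x
      rw [← Submodule.Quotient.mk_smul, Submodule.Quotient.mk_eq_zero]
      exact Submodule.smul_mem_smul ha trivial)
    refine (injective_iff_map_eq_zero (φ.rTensor N)).2 fun p hp => ?_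
    have hcomm : φ.rTensor (N ⧸ N₁) (N₁.mkQ.lTensor C p) = N₁.mkQ.lTensor C' (φ.rTensor N p) := by
      rw [← LinearMap.comp_apply, ← LinearMap.comp_apply, LinearMap.lTensor_comp_rTensor,
        LinearMap.rTensor_comp_lTensor]
    have hp₁ : N₁.mkQ.lTensor C p = 0 := h₂ (by rw [hcomm, hp, map_zero, map_zero])
    obtain ⟨q, rfl⟩ := ((lTensor_exact C (LinearMap.exact_subtype_mkQ N₁)
      N₁.mkQ_surjective) p).1 hp₁
    have hcomm' : φ.rTensor N (N₁.subtype.lTensor C q) = N₁.subtype.lTensor C' (φ.rTensor ↥N₁ q) := by
      rw [← LinearMap.comp_apply, ← LinearMap.comp_apply, LinearMap.lTensor_comp_rTensor,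
        LinearMap.rTensor_comp_lTensor]
    have hq : φ.rTensor ↥N₁ q = 0 := Module.Flat.lTensor_preserves_injective_linearMap N₁.subtype
      N₁.injective_subtype (by rw [← hcomm', hp, map_zero])
    rw [show q = 0 from h₁ (hq.trans (map_zero _).symm), map_zero]

/-- torsion elements vanishing on a flat modification vanish -/
theorem eq_zero_of_torsion [Module.Flat A C] [Module.Flat A C'] (I : Ideal A) (hI : I.FG)
    (hff : Module.FaithfullyFlat (C ⧸ I.map (algebraMap A C)) ((C ⧸ I.map (algebraMap A C)) ⊗[C] C'))
    (t : C) (n : ℕ) (ht : ∀ a ∈ I ^ n, a • t = 0) (h : algebraMap C C' t = 0) : t = 0 := by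
  classical
  obtain ⟨s, hs⟩ := Submodule.FG.pow hI n
  let ψ : A →ₗ[A] (↥s → A) := LinearMap.pi fun g => LinearMap.mulRight A (g : A)
  let φ := (Algebra.linearMap C C').restrictScalars A
  have hker : ∀ a ∈ I ^ n, ∀ x : ↥(LinearMap.ker ψ), a • x = 0 := by
    intro a ha x
    apply Subtype.ext
    show a * (x : A) = 0
    rw [← hs] at ha
    refine Submodule.span_induction (fun g hg => ?_) (zero_mul _) (fun y z _ _ hy hz => by rw [add_mul, hy, hz, add_zero])
      (fun r y _ hy => by rw [smul_eq_mul, mul_assoc, hy, mul_zero]) ha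
    have := congrFun (LinearMap.mem_ker.1 x.2) ⟨g, hg⟩
    rw [mul_comm]
    exact this
  have h0 : ψ.lTensor C (t ⊗ₜ[A] 1) = 0 := by
    rw [LinearMap.lTensor_tmul,
      show ψ 1 = ∑ g : ↥s, (g : A) • Pi.single g (1 : A) from funext fun g => by
        simp [ψ, Finset.sum_apply, Pi.single_apply],
      TensorProduct.tmul_sum]
    refine Finset.sum_eq_zero fun g _ => ?_
    rw [← TensorProduct.smul_tmul, ht _ (hs ▸ Submodule.subset_span g.2), TensorProduct.zero_tmul]
  obtain ⟨κ, hκ⟩ := ((Module.Flat.lTensor_exact C (LinearMap.exact_subtype_ker_map ψ)) _).1 h0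
  have hκ' : φ.rTensor ↥(LinearMap.ker ψ) κ = 0 := by
    refine Module.Flat.lTensor_preserves_injective_linearMap (LinearMap.ker ψ).subtype
      (LinearMap.ker ψ).injective_subtype ?_
    rw [map_zero, ← LinearMap.comp_apply, LinearMap.lTensor_comp_rTensor, ← LinearMap.rTensor_comp_lTensor,
      LinearMap.comp_apply, hκ, LinearMap.rTensor_tmul]
    show algebraMap C C' t ⊗ₜ[A] (1 : A) = 0
    rw [h, TensorProduct.zero_tmul]
  have : κ = 0 := lTensor_injective_of_kills_pow I hff n _ hker (hκ'.trans (map_zero _).symm)
  have h1 := congrArg (TensorProduct.rid A C) hκ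
  rw [this, map_zero, map_zero, TensorProduct.rid_tmul, one_smul] at h1
  exact h1.symm

end Groth.Agent.GlueIso
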